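import Cfsg.Agent.Lib.TensorSympMax.Spread

/-!
A non-scalar element of the root group of a pure line gives a pure isotropic transvection group.
-/

set_option autoImplicit false
set_option linter.unusedSectionVars false

namespace CfsgLib.TensorSympMax

open LinearMap Module

variable {F : Type*} [Field F] {W : Type*} [AddCommGroup W] [Module F W] [FiniteDimensional F W]
  {b : LinearMap.BilinForm F W} {hb : Form b} {Ms : Set (Blk F W)}

theorem exists_binary [Fintype F] (h2 : (2 : F) ≠ 0) {A B : F} (hA : A ≠ 0) (hB : B ≠ 0) (c : F) :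
    ∃ x y : F, A * x ^ 2 + B * y ^ 2 = c := by
  obtain ⟨a, b, hab⟩ := FiniteField.exists_root_sum_quadratic
    (f := Polynomial.C A * Polynomial.X ^ 2 - Polynomial.C c)
    (g := Polynomial.C B * Polynomial.X ^ 2)
    (by
      rw [sub_eq_add_neg, ← map_neg Polynomial.C, Polynomial.degree_add_C (by
        rw [Polynomial.degree_C_mul_X_pow 2 hA]; norm_num), Polynomial.degree_C_mul_X_pow 2 hA]
      rfl)
    (by rw [Polynomial.degree_C_mul_X_pow 2 hB]; rfl)
    (FiniteField.odd_card_of_char_ne_two (fun hch => by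
      have : CharP F 2 := ringChar.of_eq hch
      exact h2 CharTwo.two_eq_zero))
  refine ⟨a, b, ?_⟩
  simp only [Polynomial.eval_sub, Polynomial.eval_mul, Polynomial.eval_C, Polynomial.eval_pow,
    Polynomial.eval_X] at hab
  linear_combination hab

/-- A non-zero vector perpendicular to two given ones, in a subspace of dimension at least three. -/
theorem exists_perp_two (u v : W) (hd : 3 ≤ finrank F W) : ∃ x : W, x ≠ 0 ∧ b u x = 0 ∧ b v x = 0 := by
  have hlt : finrank F (F × F) < finrank F W := by rw [Module.finrank_prod, Module.finrank_self]; omega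
  obtain ⟨x, hx, hx0⟩ := (Submodule.ne_bot_iff _).1
    (LinearMap.ker_ne_bot_of_finrank_lt (f := (b u).prod (b v)) hlt)
  rw [LinearMap.mem_ker] at hx
  exact ⟨x, hx0, congrArg Prod.fst hx, congrArg Prod.snd hx⟩

/-- An isotropic vector perpendicular to two given ones, in dimension at least five. -/
theorem exists_isotropic_perp [Fintype F] (hb : Form b) (u v : W) (hd : 5 ≤ finrank F W) :
    ∃ x : W, x ≠ 0 ∧ b x x = 0 ∧ b u x = 0 ∧ b v x = 0 := by
  obtain ⟨x₁, h10, h1u, h1v⟩ := exists_perp_two (b := b) u v (by omega)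
  by_cases h1 : b x₁ x₁ = 0
  · exact ⟨x₁, h10, h1, h1u, h1v⟩
  obtain ⟨x₂, h20, h2u, h2v, h21⟩ : ∃ x : W, x ≠ 0 ∧ b u x = 0 ∧ b v x = 0 ∧ b x₁ x = 0 := by
    have hlt : finrank F (F × F × F) < finrank F W := by
      rw [Module.finrank_prod, Module.finrank_prod, Module.finrank_self]; omega
    obtain ⟨x, hx, hx0⟩ := (Submodule.ne_bot_iff _).1
      (LinearMap.ker_ne_bot_of_finrank_lt (f := (b u).prod ((b v).prod (b x₁))) hlt)
    rw [LinearMap.mem_ker] at hx
    exact ⟨x, hx0, congrArg Prod.fst hx, congrArg (fun p => p.2.1) hx, congrArg (fun p => p.2.2) hx⟩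
  by_cases h2 : b x₂ x₂ = 0
  · exact ⟨x₂, h20, h2, h2u, h2v⟩
  obtain ⟨x₃, h30, h3u, h3v, h31, h32⟩ :
      ∃ x : W, x ≠ 0 ∧ b u x = 0 ∧ b v x = 0 ∧ b x₁ x = 0 ∧ b x₂ x = 0 := by
    have hlt : finrank F (F × F × F × F) < finrank F W := by
      rw [Module.finrank_prod, Module.finrank_prod, Module.finrank_prod, Module.finrank_self]; omega
    obtain ⟨x, hx, hx0⟩ := (Submodule.ne_bot_iff _).1
      (LinearMap.ker_ne_bot_of_finrank_lt (f := (b u).prod ((b v).prod ((b x₁).prod (b x₂)))) hlt)
    rw [LinearMap.mem_ker] at hx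
    exact ⟨x, hx0, congrArg Prod.fst hx, congrArg (fun p => p.2.1) hx, congrArg (fun p => p.2.2.1) hx,
      congrArg (fun p => p.2.2.2) hx⟩
  by_cases h3 : b x₃ x₃ = 0
  · exact ⟨x₃, h30, h3, h3u, h3v⟩
  obtain ⟨s, t, hst⟩ := exists_binary hb.two h1 h2 (-b x₃ x₃)
  refine ⟨s • x₁ + t • x₂ + x₃, fun h0 => h3 ?_, ?_, by simp [h1u, h2u, h3u], by simp [h1v, h2v, h3v]⟩
  · have h := congrArg (fun z => b z x₃) h0
    simpa [h31, h32] using h
  · simp [hb.symm x₂ x₁, hb.symm x₃ x₁, hb.symm x₃ x₂, h21, h31, h32]
    linear_combination hst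

/-- Linear maps for which every non-singular vector is an eigenvector are scalar. -/
theorem scalar_of_eigen (hb : Form b) (hd : 3 ≤ finrank F W) (A : Module.End F W)
    (h : ∀ x, b x x ≠ 0 → ∃ l : F, A x = l • x) : ∃ l : F, A = l • 1 := by
  haveI : Invertible (2 : F) := invertibleOfNonzero hb.two
  obtain ⟨e, he⟩ := LinearMap.BilinForm.exists_orthogonal_basis (B := b) ⟨hb.symm⟩
  have hq : ∀ i, b (e i) (e i) ≠ 0 := fun i =>
    LinearMap.BilinForm.iIsOrtho.not_isOrtho_basis_self_of_nondegenerate he hb.nondeg i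
  have ho : ∀ i j, i ≠ j → b (e i) (e j) = 0 := fun i j hij => he hij
  choose l hl using fun i => h (e i) (hq i)
  have pairEq : ∀ i j, i ≠ j → b (e i) (e i) + b (e j) (e j) ≠ 0 → l i = l j := by
    intro i j hij hs
    obtain ⟨m, hm⟩ := h (e i + e j) (by simpa [ho i j hij, ho j i hij.symm] using hs)
    rw [map_add, hl, hl] at hm
    have e1 := congrArg (fun z => b (e i) z) hm
    have e2 := congrArg (fun z => b (e j) z) hm
    simp [ho i j hij, ho j i hij.symm, hq] at e1 e2
    rw [e1, e2]
  have allEq : ∀ i j, l i = l j := by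
    intro i j
    rcases eq_or_ne i j with rfl | hij
    · rfl
    by_cases hs : b (e i) (e i) + b (e j) (e j) = 0
    · obtain ⟨k, hki, hkj⟩ : ∃ k, k ≠ i ∧ k ≠ j := by
        classical
        obtain ⟨k, -, hk⟩ := Finset.exists_mem_notMem_of_card_lt_card
          (s := ({i, j} : Finset (Fin (finrank F W)))) (t := Finset.univ)
          (lt_of_le_of_lt Finset.card_le_two (by rw [Finset.card_univ, Fintype.card_fin]; omega))
        simp only [Finset.mem_insert, Finset.mem_singleton, not_or] at hk
        exact ⟨k, hk⟩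
      obtain ⟨m, hm⟩ := h (e i + e j + e k) (by
        simp [ho i j hij, ho j i hij.symm, ho k i hki, ho i k hki.symm, ho k j hkj, ho j k hkj.symm, hs, hq])
      rw [map_add, map_add, hl, hl, hl] at hm
      have e1 := congrArg (fun z => b (e i) z) hm
      have e2 := congrArg (fun z => b (e j) z) hm
      simp [ho i j hij, ho j i hij.symm, ho i k hki.symm, ho j k hkj.symm, hq] at e1 e2
      rw [e1, e2]
    · exact pairEq i j hij hs
  have h0 : 0 < finrank F W := by omega
  exact ⟨l ⟨0, h0⟩, e.ext fun i => by rw [hl, allEq i ⟨0, h0⟩]; rfl⟩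

variable (b) in
/-- The symmetric rank two map. -/
def sop (z w : W) : Module.End F W := op b z w + op b w z

theorem sop_comm (z w : W) : sop b z w = sop b w z := add_comm _ _

theorem sop_add_right (z w w' : W) : sop b z (w + w') = sop b z w + sop b z w' := by
  simp only [sop, op_add_left, op_add_right]; abel

theorem sop_smul_right (t : F) (z w : W) : sop b z (t • w) = t • sop b z w := by
  simp only [sop, op_smul_left, op_smul_right, smul_add]

namespace CSetting

variable (S : CSetting hb Ms)
include S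

/-- The root group of the line through the first basis vector. -/
def Root (_S : CSetting hb Ms) (A : Module.End F W) : Prop := (!![1, A; 0, 1] : Blk F W) ∈ Ms

theorem root_symm {A : Module.End F W} (hA : S.Root A) : adj hb A = A := by
  have h := congrFun (congrFun (S.sigma_mul hA) 0) 1
  simp [sigma, Matrix.mul_apply, Fin.sum_univ_two, adj_one] at h
  rw [← sub_eq_zero, ← neg_eq_zero, neg_sub, sub_eq_add_neg]
  exact h

theorem root_add {A B : Module.End F W} (hA : S.Root A) (hB : S.Root B) : S.Root (A + B) := by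
  have := S.mul hA hB
  simpa [Root, Matrix.mul_fin_two, add_comm] using this

theorem root_neg {A : Module.End F W} (hA : S.Root A) : S.Root (-A) := by
  have := S.sigma_mem hA
  simpa [Root, sigma, adj_one, adj_zero, S.root_symm hA] using this

theorem root_sub {A B : Module.End F W} (hA : S.Root A) (hB : S.Root B) : S.Root (A - B) := by
  rw [sub_eq_add_neg]; exact S.root_add hA (S.root_neg hB)

theorem root_scalar (c : F) : S.Root (c • 1) := S.upper c

theorem torus {s : F} (hs : s ≠ 0) : (!![s • 1, 0; 0, s⁻¹ • 1] : Blk F W) ∈ Ms := by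
  have := S.mul (S.mul (S.mul (S.lower (-((s - 1) / s))) (S.upper 1)) (S.lower (s - 1))) (S.upper (-s⁻¹))
  have e : (!![1, 0; (-((s - 1) / s)) • 1, 1] : Blk F W) * !![1, (1 : F) • 1; 0, 1] * !![1, 0; (s - 1) • 1, 1] *
      !![1, (-s⁻¹) • 1; 0, 1] = !![s • 1, 0; 0, s⁻¹ • 1] := by
    ext i j x
    fin_cases i <;> fin_cases j <;> simp [Matrix.mul_fin_two] <;> match_scalars <;> field_simp <;> ring
  rwa [e] at this

theorem root_sq {A : Module.End F W} (hA : S.Root A) {s : F} (hs : s ≠ 0) : S.Root ((s * s) • A) := by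
  have := S.mul (S.mul (S.torus hs) hA) (S.torus (inv_ne_zero hs))
  simpa [Root, Matrix.mul_fin_two, smul_smul, hs, smul_add] using this

theorem root_smul {A : Module.End F W} (hA : S.Root A) (c : F) : S.Root (c • A) := by
  have h0 : S.Root (0 : Module.End F W) := by simpa using S.root_scalar 0
  have sq : ∀ s : F, S.Root ((s * s) • A) := fun s => by
    by_cases hs : s = 0
    · simpa [hs] using h0
    · exact S.root_sq hA hs
  have h2 := hb.two
  have h := S.root_sub (sq ((c + 1) / 2)) (sq ((c - 1) / 2))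
  rwa [← sub_smul, show (c + 1) / 2 * ((c + 1) / 2) - (c - 1) / 2 * ((c - 1) / 2) = c by field_simp; ring] at h

theorem root_conj {A : Module.End F W} (hA : S.Root A) {w : W} (hw : b w w ≠ 0) :
    S.Root (refl b w * A * refl b w) := by
  have := S.conj w hw hA
  simpa [Root, Matrix.mul_fin_two, refl_mul_self hw] using this

theorem sop_of_root {A : Module.End F W} (hA : S.Root A) {w : W} (hw : b w w ≠ 0) :
    S.Root (sop b w (A w - (b w (A w) / b w w) • w)) := by
  have h2 := hb.two
  have e : ∀ x y, b (A x) y = b x (A y) := fun x y => by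
    rw [← adj_left hb A x y, S.root_symm hA]
  have key : sop b w (A w - (b w (A w) / b w w) • w) =
      (b w w / 2) • (A - refl b w * A * refl b w) := by
    ext x
    simp only [sop, op_apply, LinearMap.add_apply, LinearMap.smul_apply, LinearMap.sub_apply, Module.End.mul_apply,
      refl_apply, map_sub, map_smul, smul_eq_mul, e w x]
    match_scalars <;> field_simp <;> ring
  rw [key]
  exact S.root_smul (S.root_sub hA (S.root_conj hA hw)) _

theorem sop_move {w z p : W} (h : S.Root (sop b w z)) (hp : b p p ≠ 0) :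
    S.Root (sop b (refl b p w) (refl b p z)) := by
  have := S.root_conj h hp
  rwa [sop, mul_add, add_mul, mul_op, mul_op, op_mul hb, op_mul hb, adj_refl] at this

theorem shift {w z i : W} (h : S.Root (sop b w z)) (hz : b z z ≠ 0) (hwz : b w z = 0) (hwi : b w i = 0)
    (hzi : b z i = 0) (hii : b i i = 0) : S.Root (sop b w i) := by
  have hzw : b z w = 0 := by rw [hb.symm, hwz]
  have hiw : b i w = 0 := by rw [hb.symm, hwi]
  have hiz : b i z = 0 := by rw [hb.symm, hzi]
  have h2 := hb.two
  have hn : b (z + i) (z + i) ≠ 0 := by simpa [hzi, hiz, hii] using hz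
  have := S.sop_move (S.sop_move h hz) hn
  have e1 : refl b (z + i) (refl b z w) = w := by simp [refl_apply, hzw, hiw]
  have e2 : refl b (z + i) (refl b z z) = z + (2 : F) • i := by
    simp [refl_apply, hzi, hiz, hii]
    match_scalars <;> field_simp <;> ring
  rw [e1, e2, sop_add_right, sop_smul_right] at this
  have h3 := S.root_smul (S.root_sub this h) (2 : F)⁻¹
  rwa [add_sub_cancel_left, smul_smul, inv_mul_cancel₀ h2, one_smul] at h3

theorem centre_of_sop {w i : W} (h : S.Root (sop b w i)) (hw : b w w ≠ 0) (hwi : b w i = 0) (hii : b i i = 0) :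
    (i, (0 : W)) ∈ centres b Ms := by
  have hiw : b i w = 0 := by rw [hb.symm, hwi]
  have h2 := hb.two
  have hn : b (w + i) (w + i) ≠ 0 := by simpa [hwi, hiw, hii] using hw
  have := S.sop_move (S.sop_move h hw) hn
  have e1 : refl b (w + i) (refl b w w) = w + (2 : F) • i := by
    simp [refl_apply, hwi, hiw, hii]
    match_scalars <;> field_simp <;> ring
  have e2 : refl b (w + i) (refl b w i) = i := by simp [refl_apply, hwi, hii]
  rw [e1, e2, sop_comm, sop_add_right, sop_comm i w, sop_smul_right, sop, sop] at this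
  have h3 := S.root_sub this h
  rw [sop, add_sub_cancel_left, ← two_smul F (op b i i), smul_smul] at h3
  have h4 := hb.four
  intro c
  have h5 := S.root_smul h3 (-c / 4)
  rw [smul_smul, show -c / 4 * (2 * 2) = -c by field_simp; ring, neg_smul] at h5
  simpa [tv, Root, op_apply, show op b (0 : W) i = 0 by ext; simp [op_apply],
    show op b i (0 : W) = 0 by ext; simp [op_apply], show op b (0 : W) (0 : W) = 0 by ext; simp [op_apply]] using h5

theorem rotate [Fintype F] (hq : 5 ≤ Fintype.card F) {w z e : W} (h : S.Root (sop b w z)) (hz : b z z ≠ 0)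
    (hwz : b w z = 0) (hwe : b w e = 0) (hze : b z e = 0) : S.Root (sop b w e) := by
  classical
  have hzw : b z w = 0 := by rw [hb.symm, hwz]
  have hew : b e w = 0 := by rw [hb.symm, hwe]
  have hez : b e z = 0 := by rw [hb.symm, hze]
  obtain ⟨t, ht0, ht⟩ : ∃ t : F, t ≠ 0 ∧ b z z + t * t * b e e ≠ 0 := by
    by_cases he : b e e = 0
    · exact ⟨1, one_ne_zero, by simpa [he] using hz⟩
    let P : Polynomial F := Polynomial.C (b e e) * Polynomial.X ^ 2 + Polynomial.C (b z z)
    have hP : P ≠ 0 := fun h0 => hz (by simpa [P] using congrArg (fun p => Polynomial.eval 0 p) h0)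
    have hdeg : P.natDegree ≤ 2 := by simp only [P]; compute_degree
    obtain ⟨t, -, ht⟩ := Finset.exists_mem_notMem_of_card_lt_card (s := insert (0 : F) P.roots.toFinset)
      (t := Finset.univ) (lt_of_le_of_lt (Finset.card_insert_le _ _) (by
        rw [Finset.card_univ]
        have := (Multiset.toFinset_card_le P.roots).trans ((Polynomial.card_roots' P).trans hdeg)
        omega))
    simp only [Finset.mem_insert, Multiset.mem_toFinset, not_or] at ht
    exact ⟨t, ht.1, fun h0 => ht.2 ((Polynomial.mem_roots hP).2 (by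
      simp [P, Polynomial.IsRoot]; linear_combination h0))⟩
  set y := z + t • e with hy
  have hyy : b y y ≠ 0 := by simpa [hy, hze, hez, mul_assoc] using ht
  have := S.sop_move h hyy
  have e1 : refl b y w = w := by simp [refl_apply, hy, hzw, hew]
  rw [e1, refl_apply, sub_eq_add_neg, sop_add_right, ← neg_smul, sop_smul_right] at this
  have hb0 : b y z ≠ 0 := by simpa [hy, hez] using hz
  have h2 := hb.two
  have hc : -(2 / b y y * b y z) ≠ 0 := by simp [h2, hyy, hb0]
  have h3 := S.root_smul (S.root_sub this h) (-(2 / b y y * b y z))⁻¹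
  rw [add_sub_cancel_left, smul_smul, inv_mul_cancel₀ hc, one_smul, hy, sop_add_right, sop_smul_right] at h3
  have h4 := S.root_smul (S.root_sub h3 h) t⁻¹
  rwa [add_sub_cancel_left, smul_smul, inv_mul_cancel₀ ht0, one_smul] at h4

/-- A non-scalar element of the root group gives a pure isotropic transvection group. -/
theorem exists_centre [Fintype F] (hbig : 5 ≤ finrank F W ∨ 5 ≤ Fintype.card F) {A : Module.End F W}
    (hA : S.Root A) (hns : ∀ c : F, A ≠ c • 1) :
    ∃ i : W, i ≠ 0 ∧ b i i = 0 ∧ (i, (0 : W)) ∈ centres b Ms := by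
  obtain ⟨w, hw, hnw⟩ : ∃ w, b w w ≠ 0 ∧ ∀ l : F, A w ≠ l • w := by
    by_contra hc
    push Not at hc
    obtain ⟨l, hl⟩ := scalar_of_eigen hb S.dim A hc
    exact hns l hl
  set z := A w - (b w (A w) / b w w) • w with hzdef
  have hz0 : z ≠ 0 := sub_ne_zero.2 (hnw _)
  have hwz : b w z = 0 := by simp [hzdef, hw]
  have h := S.sop_of_root hA hw
  by_cases hz : b z z = 0
  · exact ⟨z, hz0, hz, S.centre_of_sop h hw hwz hz⟩
  rcases hbig with hbig | hbig
  · obtain ⟨i, hi0, hii, hwi, hzi⟩ := exists_isotropic_perp hb w z hbig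
    exact ⟨i, hi0, hii, S.centre_of_sop (S.shift h hz hwz hwi hzi hii) hw hwi hii⟩
  obtain ⟨e, he0, hwe, hze⟩ := exists_perp_two (b := b) w z S.dim
  by_cases hee : b e e = 0
  · exact ⟨e, he0, hee, S.centre_of_sop (S.shift h hz hwz hwe hze hee) hw hwe hee⟩
  have hwe' := S.rotate hbig h hz hwz hwe hze
  obtain ⟨a, c, hac⟩ := exists_binary hb.two hz hee (-b w w)
  have hzw : b z w = 0 := by rw [hb.symm, hwz]
  have hew : b e w = 0 := by rw [hb.symm, hwe]
  have hez : b e z = 0 := by rw [hb.symm, hze]
  set x := a • z + c • e with hx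
  set x' := (c * b e e) • z + (-(a * b z z)) • e with hx'
  have hwx : b w x = 0 := by simp [hx, hwz, hwe]
  have hwx' : b w x' = 0 := by simp [hx', hwz, hwe]
  have hxw : b x w = 0 := by rw [hb.symm, hwx]
  have hxx : b x x = -b w w := by simp [hx, hze, hez]; linear_combination hac
  have hxx' : b x' x = 0 := by simp [hx, hx', hze, hez]; ring
  have hx'x' : b x' x' ≠ 0 := by
    have e' : b x' x' = b z z * b e e * -b w w := by
      simp [hx', hze, hez]; linear_combination (b z z * b e e) * hac
    rw [e']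
    simp [hz, hee, hw]
  have hx'w : b x' w = 0 := by rw [hb.symm, hwx']
  have h1 : S.Root (sop b x' w) := by
    rw [sop_comm, hx', sop_add_right, sop_smul_right, sop_smul_right]
    exact S.root_add (S.root_smul h _) (S.root_smul hwe' _)
  have h2 := S.rotate hbig h1 hw hx'w hxx' hwx
  have h3 : S.Root (sop b x' (w + x)) := by rw [sop_add_right]; exact S.root_add h1 h2
  refine ⟨w + x, fun h0 => hw ?_, ?_, S.centre_of_sop h3 hx'x' (by simp [hx'w, hxx']) ?_⟩
  · have := congrArg (fun v => b w v) h0
    simpa [hwx] using this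
  · simp [hwx, hxw, hxx]
  · simp [hwx, hxw, hxx]

end CSetting

end CfsgLib.TensorSympMax
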