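import Mathlib

/-!
An algebra generated by a copy of two by two matrices and two annihilating square-zero elements.
-/

set_option autoImplicit false
set_option linter.unusedSectionVars false

namespace CfsgLib.TensorSympMax

variable {F : Type*} [Field F] {R : Type*} [Ring R] [Algebra F R]

/-- The element with matrix part `!![a, b; c, d]` and exponents `s`, `t`. -/
def phi6 (e11 e12 e21 e22 Z T : R) (a b c d s t : F) : R :=
  1 + (a - 1) • e11 + b • e12 + c • e21 + (d - 1) • e22 + s • Z + t • T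

/-- The relations. -/
structure MatUnits (e11 e12 e21 e22 Z T : R) : Prop where
  m11_11 : e11 * e11 = e11
  m11_12 : e11 * e12 = e12
  m12_21 : e12 * e21 = e11
  m12_22 : e12 * e22 = e12
  m21_11 : e21 * e11 = e21
  m21_12 : e21 * e12 = e22
  m22_21 : e22 * e21 = e21
  m22_22 : e22 * e22 = e22
  m11_21 : e11 * e21 = 0
  m11_22 : e11 * e22 = 0
  m12_11 : e12 * e11 = 0
  m12_12 : e12 * e12 = 0
  m21_21 : e21 * e21 = 0
  m21_22 : e21 * e22 = 0
  m22_11 : e22 * e11 = 0
  m22_12 : e22 * e12 = 0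
  Z11 : Z * e11 = 0
  Z12 : Z * e12 = 0
  Z21 : Z * e21 = 0
  Z22 : Z * e22 = 0
  l11 : e11 * Z = 0
  l12 : e12 * Z = 0
  l21 : e21 * Z = 0
  l22 : e22 * Z = 0
  T11 : T * e11 = 0
  T12 : T * e12 = 0
  T21 : T * e21 = 0
  T22 : T * e22 = 0
  k11 : e11 * T = 0
  k12 : e12 * T = 0
  k21 : e21 * T = 0
  k22 : e22 * T = 0
  ZZ : Z * Z = 0
  ZT : Z * T = 0
  TZ : T * Z = 0
  TT : T * T = 0

theorem phi6_mul {e11 e12 e21 e22 Z T : R} (H : MatUnits e11 e12 e21 e22 Z T)
    (a b c d s t a' b' c' d' s' t' : F) :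
    phi6 e11 e12 e21 e22 Z T a b c d s t * phi6 e11 e12 e21 e22 Z T a' b' c' d' s' t' =
      phi6 e11 e12 e21 e22 Z T (a * a' + b * c') (a * b' + b * d') (c * a' + d * c') (c * b' + d * d') (s + s')
        (t + t') := by
  simp only [phi6, mul_add, add_mul, one_mul, mul_one, smul_mul_assoc, mul_smul_comm, H.m11_11, H.m11_12,
    H.m12_21, H.m12_22, H.m21_11, H.m21_12, H.m22_21, H.m22_22, H.m11_21, H.m11_22, H.m12_11, H.m12_12, H.m21_21,
    H.m21_22, H.m22_11, H.m22_12, H.Z11, H.Z12, H.Z21, H.Z22, H.l11, H.l12, H.l21, H.l22, H.T11, H.T12, H.T21,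
    H.T22, H.k11, H.k12, H.k21, H.k22, H.ZZ, H.ZT, H.TZ, H.TT, smul_zero, add_zero]
  module

end CfsgLib.TensorSympMax
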