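import Mathlib

/-!
Block matrices over the endomorphisms of a quadratic space `W`: the symplectic space `W × W` obtained as the
tensor product of a hyperbolic plane and `W`, root elements, reflections and transvections.
-/

set_option autoImplicit false
set_option linter.unusedSectionVars false

namespace CfsgLib.TensorSympMax

open LinearMap Module

variable {F : Type*} [Field F] {W : Type*} [AddCommGroup W] [Module F W] [FiniteDimensional F W]

/-- A non-degenerate symmetric bilinear form in characteristic different from two. -/
structure Form (b : LinearMap.BilinForm F W) : Prop where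
  symm : ∀ x y, b x y = b y x
  nondeg : b.Nondegenerate
  two : (2 : F) ≠ 0

variable {b : LinearMap.BilinForm F W}

theorem Form.ext_left (hb : Form b) {x x' : W} (h : ∀ y, b x y = b x' y) : x = x' :=
  sub_eq_zero.1 (hb.nondeg.1 _ fun y => by rw [map_sub, LinearMap.sub_apply, h y, sub_self])

theorem Form.four (hb : Form b) : (4 : F) ≠ 0 := by
  rw [show (4 : F) = 2 * 2 by norm_num]
  exact mul_ne_zero hb.two hb.two

variable (b) in
/-- The rank one map `x ↦ b z x • w`. -/
def op (z w : W) : Module.End F W := (b z).smulRight w

theorem op_apply (z w x : W) : op b z w x = b z x • w := rfl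

theorem op_add_left (z z' w : W) : op b (z + z') w = op b z w + op b z' w := by
  ext x; simp [op_apply, add_smul]

theorem op_add_right (z w w' : W) : op b z (w + w') = op b z w + op b z w' := by
  ext x; simp [op_apply, smul_add]

theorem op_smul_left (t : F) (z w : W) : op b (t • z) w = t • op b z w := by
  ext x; simp [op_apply, smul_smul]

theorem op_smul_right (t : F) (z w : W) : op b z (t • w) = t • op b z w := by
  ext x; simp [op_apply, smul_smul, mul_comm]

/-- The adjoint. -/
noncomputable def adj (hb : Form b) (X : Module.End F W) : Module.End F W :=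
  b.leftAdjointOfNondegenerate hb.nondeg X

theorem adj_left (hb : Form b) (X : Module.End F W) (x y : W) : b (adj hb X x) y = b x (X y) :=
  LinearMap.BilinForm.isAdjointPairLeftAdjointOfNondegenerate b hb.nondeg X x y

theorem adj_right (hb : Form b) (X : Module.End F W) (x y : W) : b x (adj hb X y) = b (X x) y := by
  rw [hb.symm, adj_left, hb.symm]

theorem adj_eq (hb : Form b) {X Y : Module.End F W} (h : ∀ x y, b (Y x) y = b x (X y)) : adj hb X = Y :=
  LinearMap.ext fun x => hb.ext_left fun y => by rw [adj_left, h]

theorem adj_adj (hb : Form b) (X : Module.End F W) : adj hb (adj hb X) = X :=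
  adj_eq hb fun x y => (adj_right hb X x y).symm

theorem adj_mul (hb : Form b) (X Y : Module.End F W) : adj hb (X * Y) = adj hb Y * adj hb X :=
  adj_eq hb fun x y => by simp only [Module.End.mul_apply, adj_left]

theorem adj_add (hb : Form b) (X Y : Module.End F W) : adj hb (X + Y) = adj hb X + adj hb Y :=
  adj_eq hb fun x y => by simp only [LinearMap.add_apply, map_add, adj_left]

theorem adj_sub (hb : Form b) (X Y : Module.End F W) : adj hb (X - Y) = adj hb X - adj hb Y :=
  adj_eq hb fun x y => by simp only [LinearMap.sub_apply, map_sub, adj_left]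

theorem adj_neg (hb : Form b) (X : Module.End F W) : adj hb (-X) = -adj hb X :=
  adj_eq hb fun x y => by simp only [LinearMap.neg_apply, map_neg, adj_left]

theorem adj_smul (hb : Form b) (t : F) (X : Module.End F W) : adj hb (t • X) = t • adj hb X :=
  adj_eq hb fun x y => by simp only [LinearMap.smul_apply, map_smul, adj_left]

theorem adj_zero (hb : Form b) : adj hb 0 = 0 := adj_eq hb fun x y => by simp

theorem adj_one (hb : Form b) : adj hb 1 = 1 := adj_eq hb fun x y => by simp

theorem adj_op (hb : Form b) (z w : W) : adj hb (op b z w) = op b w z :=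
  adj_eq hb fun x y => by
    simp only [op_apply, map_smul, LinearMap.smul_apply, smul_eq_mul, hb.symm x w]
    ring

theorem mul_op (X : Module.End F W) (z w : W) : X * op b z w = op b z (X w) := by
  ext x; simp [op_apply]

theorem op_mul (hb : Form b) (X : Module.End F W) (z w : W) : op b z w * X = op b (adj hb X z) w := by
  ext x; simp [op_apply, adj_left]

theorem op_mul_op (z w z' w' : W) : op b z w * op b z' w' = b z w' • op b z' w := by
  ext x; simp [op_apply, smul_smul, mul_comm]

variable (b) in
/-- The reflection in a non-singular vector. -/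
noncomputable def refl (w : W) : Module.End F W := 1 - (2 / b w w) • op b w w

theorem refl_apply (w x : W) : refl b w x = x - (2 / b w w * b w x) • w := by
  simp [refl, op_apply, smul_smul]

theorem refl_mul_self {w : W} (hw : b w w ≠ 0) : refl b w * refl b w = 1 := by
  ext x
  rw [Module.End.mul_apply, refl_apply, refl_apply, map_sub, map_smul, smul_eq_mul, Module.End.one_apply]
  match_scalars <;> field_simp <;> ring

theorem adj_refl (hb : Form b) (w : W) : adj hb (refl b w) = refl b w := by
  rw [refl, adj_sub, adj_one, adj_smul, adj_op]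

theorem refl_swap (hb : Form b) {x y : W} (hxy : b x x = b y y) (h : b (x - y) (x - y) ≠ 0) :
    refl b (x - y) x = y := by
  have e : b (x - y) (x - y) = 2 * b (x - y) x := by
    simp only [map_sub, LinearMap.sub_apply, hb.symm x y]
    linear_combination -hxy
  rw [refl_apply, div_mul_eq_mul_div, ← e, div_self h, one_smul, sub_sub_cancel]

theorem refl_isometry (hb : Form b) {w : W} (hw : b w w ≠ 0) (x y : W) : b (refl b w x) (refl b w y) = b x y := by
  rw [← adj_left hb (refl b w), adj_refl, ← Module.End.mul_apply, refl_mul_self hw, Module.End.one_apply]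

/-- Two by two matrices of endomorphisms. -/
abbrev Blk (F : Type*) [Field F] (W : Type*) [AddCommGroup W] [Module F W] :=
  Matrix (Fin 2) (Fin 2) (Module.End F W)

/-- The action on `W × W`. -/
def act (X : Blk F W) (x : W × W) : W × W := (X 0 0 x.1 + X 0 1 x.2, X 1 0 x.1 + X 1 1 x.2)

theorem act_mul (X Y : Blk F W) (x : W × W) : act (X * Y) x = act X (act Y x) := by
  simp [act, Matrix.mul_apply, Fin.sum_univ_two, LinearMap.add_apply]
  constructor <;> abel

theorem act_one (x : W × W) : act (1 : Blk F W) x = x := by simp [act]

theorem act_add (X : Blk F W) (x y : W × W) : act X (x + y) = act X x + act X y := by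
  ext <;> simp [act] <;> abel

theorem act_smul (X : Blk F W) (t : F) (x : W × W) : act X (t • x) = t • act X x := by
  ext <;> simp [act]

theorem act_ext {X Y : Blk F W} (h : ∀ x, act X x = act Y x) : X = Y := by
  ext i j x
  fin_cases j
  · have := h (x, 0)
    simp only [act, map_zero, add_zero, Prod.mk.injEq] at this
    fin_cases i
    · exact this.1
    · exact this.2
  · have := h (0, x)
    simp only [act, map_zero, zero_add, Prod.mk.injEq] at this
    fin_cases i
    · exact this.1
    · exact this.2

variable (b) in
/-- The symplectic form on `W × W`. -/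
def phi (x y : W × W) : F := b x.1 y.2 - b x.2 y.1

theorem phi_self (hb : Form b) (x : W × W) : phi b x x = 0 := by rw [phi, hb.symm x.2, sub_self]

theorem phi_swap (hb : Form b) (x y : W × W) : phi b y x = -phi b x y := by
  rw [phi, phi, hb.symm y.1, hb.symm y.2]; ring

theorem phi_add_left (x y z : W × W) : phi b (x + y) z = phi b x z + phi b y z := by
  simp [phi]; ring

theorem phi_smul_left (t : F) (x z : W × W) : phi b (t • x) z = t * phi b x z := by
  simp [phi]; ring

theorem phi_add_right (x y z : W × W) : phi b x (y + z) = phi b x y + phi b x z := by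
  simp [phi]; ring

theorem phi_smul_right (t : F) (x z : W × W) : phi b x (t • z) = t * phi b x z := by
  simp [phi]; ring

/-- The adjoint for the symplectic form. -/
noncomputable def sigma (hb : Form b) (X : Blk F W) : Blk F W :=
  !![adj hb (X 1 1), -adj hb (X 0 1); -adj hb (X 1 0), adj hb (X 0 0)]

theorem phi_sigma (hb : Form b) (X : Blk F W) (x y : W × W) : phi b (act X x) y = phi b x (act (sigma hb X) y) := by
  simp [phi, act, sigma, adj_right]
  ring

variable (b) in
/-- The transvection with centre `v` and coefficient `c`. -/
def tv (v : W × W) (c : F) : Blk F W :=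
  !![1 + c • op b v.2 v.1, -(c • op b v.1 v.1); c • op b v.2 v.2, 1 - c • op b v.1 v.2]

theorem act_tv (hb : Form b) (v : W × W) (c : F) (x : W × W) : act (tv b v c) x = x + (c * phi b x v) • v := by
  ext <;> simp [act, tv, op_apply, phi, hb.symm x.1, hb.symm x.2] <;> module

/-- A group of block isometries normalised by the stabiliser of the tensor decomposition. -/
structure CSetting (hb : Form b) (Ms : Set (Blk F W)) : Prop where
  dim : 3 ≤ finrank F W
  one : (1 : Blk F W) ∈ Ms
  mul : ∀ {X Y}, X ∈ Ms → Y ∈ Ms → X * Y ∈ Ms
  sigma_mem : ∀ {X}, X ∈ Ms → sigma hb X ∈ Ms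
  sigma_mul : ∀ {X}, X ∈ Ms → sigma hb X * X = 1
  upper : ∀ c : F, (!![1, c • 1; 0, 1] : Blk F W) ∈ Ms
  lower : ∀ c : F, (!![1, 0; c • 1, 1] : Blk F W) ∈ Ms
  conj : ∀ w, b w w ≠ 0 → ∀ {X}, X ∈ Ms →
    (!![refl b w, 0; 0, refl b w] : Blk F W) * X * !![refl b w, 0; 0, refl b w] ∈ Ms

/-- A group of block isometries containing the reflections of the second factor. -/
structure Setting (hb : Form b) (Ms : Set (Blk F W)) : Prop extends CSetting hb Ms where
  diag : ∀ w, b w w ≠ 0 → (!![refl b w, 0; 0, refl b w] : Blk F W) ∈ Ms

namespace CSetting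

variable {hb : Form b} {Ms : Set (Blk F W)} (S : CSetting hb Ms)
include S

theorem mul_sigma {X : Blk F W} (hX : X ∈ Ms) : X * sigma hb X = 1 := by
  have h := S.sigma_mul (S.sigma_mem hX)
  have e : sigma hb (sigma hb X) = X := by
    ext i j : 1
    fin_cases i <;> fin_cases j <;> simp [sigma, adj_adj, adj_neg]
  rwa [e] at h

theorem isometry {X : Blk F W} (hX : X ∈ Ms) (x y : W × W) : phi b (act X x) (act X y) = phi b x y := by
  rw [phi_sigma hb, ← act_mul, S.sigma_mul hX, act_one]

end CSetting

variable (b) in
/-- The centres of full transvection groups. -/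
def centres (Ms : Set (Blk F W)) : Set (W × W) := {v | ∀ c, tv b v c ∈ Ms}

theorem tv_smul (hb : Form b) (a : F) (v : W × W) (c : F) : tv b (a • v) c = tv b v (a * a * c) := by
  refine act_ext fun x => ?_
  rw [act_tv hb, act_tv hb, phi_smul_right, smul_smul]
  congr 2
  ring

theorem centres_smul (hb : Form b) {Ms : Set (Blk F W)} {v : W × W} (hv : v ∈ centres b Ms) (a : F) :
    a • v ∈ centres b Ms := fun c => by rw [tv_smul hb]; exact hv _

namespace CSetting

variable {hb : Form b} {Ms : Set (Blk F W)} (S : CSetting hb Ms)
include S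

theorem conj_tv {X : Blk F W} (hX : X ∈ Ms) (v : W × W) (c : F) :
    X * tv b v c * sigma hb X = tv b (act X v) c := by
  refine act_ext fun x => ?_
  rw [act_mul, act_mul, act_tv hb, act_tv hb, act_add, act_smul, ← act_mul X, S.mul_sigma hX, act_one]
  congr 3
  conv_rhs => rw [show x = act X (act (sigma hb X) x) by rw [← act_mul, S.mul_sigma hX, act_one]]
  rw [S.isometry hX]

theorem centres_act {X : Blk F W} (hX : X ∈ Ms) {v : W × W} (hv : v ∈ centres b Ms) :
    act X v ∈ centres b Ms := fun c => by
  rw [← S.conj_tv hX]
  exact S.mul (S.mul hX (hv c)) (S.sigma_mem hX)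

theorem centres_step {x y : W × W} (hx : x ∈ centres b Ms) (hy : y ∈ centres b Ms) (h : phi b x y ≠ 0) (a : F) :
    x + a • y ∈ centres b Ms := by
  have := S.centres_act (hy (a / phi b x y)) hx
  rwa [act_tv hb, div_mul_cancel₀ _ h] at this

end CSetting

end CfsgLib.TensorSympMax
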