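import Cfsg.Agent.Lib.TensorSympMax.Siegel

/-!
The skew contraction of a conjugated reflection and the three cases for its image plane.
-/

set_option autoImplicit false
set_option linter.unusedSectionVars false

namespace CfsgLib.TensorSympMax

open LinearMap Module

variable {F : Type*} [Field F] {W : Type*} [AddCommGroup W] [Module F W] [FiniteDimensional F W]
  {b : LinearMap.BilinForm F W} {hb : Form b} {Ms : Set (Blk F W)}

/-- The nilpotent block with a given corner. -/
def corner (A : Module.End F W) : Blk F W := !![0, A; 0, 0]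

theorem corner_mul (A B : Module.End F W) (g : Blk F W) :
    corner A * g * corner B = corner (A * g 1 0 * B) := by
  ext i j : 1
  fin_cases i <;> fin_cases j <;> simp [corner, Matrix.mul_apply, Matrix.vecMul, dotProduct, Fin.sum_univ_two]

theorem corner_sq (A B : Module.End F W) : corner A * corner B = 0 := by
  ext i j : 1
  fin_cases i <;> fin_cases j <;> simp [corner, Matrix.mul_apply, Matrix.vecMul, dotProduct, Fin.sum_univ_two]

theorem corner_smul (t : F) (A : Module.End F W) : corner (t • A) = t • corner A := by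
  ext i j : 1
  fin_cases i <;> fin_cases j <;> simp [corner]

theorem corner_zero : corner (0 : Module.End F W) = 0 := by
  ext i j : 1
  fin_cases i <;> fin_cases j <;> simp [corner]

theorem upper_eq (A : Module.End F W) : (!![1, A; 0, 1] : Blk F W) = 1 + corner A := by
  ext i j : 1
  fin_cases i <;> fin_cases j <;> simp [corner]

variable (b) in
/-- The skew contraction. -/
noncomputable def skw (k : F) (p s : W) : Module.End F W := k • (op b p s - op b s p)

theorem skw_apply (k : F) (p s x : W) : skw b k p s x = k • (b p x • s - b s x • p) := rfl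

theorem skw_sq_of (hb : Form b) {k : F} {p s : W} (hps : b p s = 0) (hss : b s s = 0) :
    skw b k p s * skw b k p s = -(k * k * b p p) • op b s s ∧ skw b k p s * skw b k p s * skw b k p s = 0 := by
  have hsp : b s p = 0 := by rw [hb.symm, hps]
  constructor <;>
  · ext x
    simp [skw_apply, op_apply, hps, hsp, hss]
    try module

variable (b) in
/-- The Gram determinant of a pair. -/
def gram (p s : W) : F := b p p * b s s - b p s * b p s

theorem skw_cube (hb : Form b) (k : F) (p s : W) :
    skw b k p s * skw b k p s * skw b k p s = -(k * k * gram b p s) • skw b k p s := by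
  ext x
  simp [skw_apply, gram, hb.symm s p]
  match_scalars <;> ring

namespace Setting

variable (S : Setting hb Ms)
include S

/-- The involution obtained from a reflection. -/
noncomputable def invol (_S : Setting hb Ms) (X : Blk F W) (w : W) : Blk F W :=
  sigma hb X * !![refl b w, 0; 0, refl b w] * X

theorem invol_mem {X : Blk F W} (hX : X ∈ Ms) {w : W} (hw : b w w ≠ 0) : S.invol X w ∈ Ms :=
  S.mul (S.mul (S.sigma_mem hX) (S.diag w hw)) hX

theorem invol_sq {X : Blk F W} (hX : X ∈ Ms) {w : W} (hw : b w w ≠ 0) : S.invol X w * S.invol X w = 1 := by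
  have e : (!![refl b w, 0; 0, refl b w] : Blk F W) * !![refl b w, 0; 0, refl b w] = 1 := by
    simp [Matrix.mul_fin_two, refl_mul_self hw, Matrix.one_fin_two]
  simp only [invol, mul_assoc]
  rw [← mul_assoc X, S.mul_sigma hX, one_mul, ← mul_assoc (!![refl b w, 0; 0, refl b w] : Blk F W), e, one_mul,
    S.sigma_mul hX]

theorem invol_facts {g : Blk F W} (hg : g ∈ Ms) (hgg : g * g = 1) :
    adj hb (g 1 0) = -g 1 0 ∧ adj hb (g 0 0) = g 1 1 ∧ g 1 0 * g 0 0 + g 1 1 * g 1 0 = 0 := by
  have e : sigma hb g = g := by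
    rw [← mul_one (sigma hb g), ← hgg, ← mul_assoc, S.sigma_mul hg, one_mul]
  refine ⟨?_, ?_, ?_⟩
  · have := congrFun (congrFun e 1) 0
    simp [sigma] at this
    rw [← neg_neg (adj hb (g 1 0)), this]
  · simpa [sigma] using congrFun (congrFun e 1) 1
  · simpa [Matrix.mul_apply, Fin.sum_univ_two] using congrFun (congrFun hgg 1) 0

theorem invol_corner {X : Blk F W} (hX : X ∈ Ms) (w : W) :
    S.invol X w 1 0 = skw b (2 / b w w) (adj hb (X 0 0) w) (adj hb (X 1 0) w) := by
  have h0 := congrFun (congrFun (S.sigma_mul hX) 1) 0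
  simp [sigma, Matrix.mul_apply, Fin.sum_univ_two] at h0
  simp [invol, sigma, Matrix.mul_apply, Fin.sum_univ_two, refl, skw, mul_sub, sub_mul, mul_op, op_mul hb]
  linear_combination (norm := module) h0

theorem invol_corner_top {X : Blk F W} (hX : X ∈ Ms) (w : W) :
    adj hb (S.invol X w 0 0) = 1 - (2 / b w w) • (op b (adj hb (X 1 1) w) (adj hb (X 0 0) w) -
      op b (adj hb (X 0 1) w) (adj hb (X 1 0) w)) := by
  have h0 := congrFun (congrFun (S.sigma_mul hX) 0) 0
  simp [sigma, Matrix.mul_apply, Fin.sum_univ_two] at h0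
  have e : S.invol X w 0 0 = 1 - (2 / b w w) • (op b (adj hb (X 0 0) w) (adj hb (X 1 1) w) -
      op b (adj hb (X 1 0) w) (adj hb (X 0 1) w)) := by
    simp [invol, sigma, Matrix.mul_apply, Fin.sum_univ_two, refl, mul_sub, sub_mul, mul_op, op_mul hb]
    linear_combination (norm := module) h0
  rw [e, adj_sub, adj_one, adj_smul, adj_sub, adj_op, adj_op]

theorem conj_upper {Y : Blk F W} (hY : Y ∈ Ms) :
    Y * !![1, (1 : F) • 1; 0, 1] * sigma hb Y =
      !![1 - Y 0 0 * adj hb (Y 1 0), Y 0 0 * adj hb (Y 0 0); -(Y 1 0 * adj hb (Y 1 0)),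
        1 + Y 1 0 * adj hb (Y 0 0)] := by
  rw [upper_eq, mul_add, mul_one, add_mul, S.mul_sigma hY]
  ext i j : 1
  fin_cases i <;> fin_cases j <;> simp [corner, sigma, Matrix.mul_apply, Fin.sum_univ_two, sub_eq_add_neg]

theorem conj_upper_mem {Y : Blk F W} (hY : Y ∈ Ms) :
    Y * !![1, (1 : F) • 1; 0, 1] * sigma hb Y ∈ Ms :=
  S.mul (S.mul hY (S.upper 1)) (S.sigma_mem hY)

/-- A nilpotent contraction of index three gives a root element. -/
theorem root_of_nil {g : Blk F W} (hg : g ∈ Ms) (hgg : g * g = 1) (h2 : g 1 0 * g 1 0 ≠ 0)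
    (h3 : g 1 0 * g 1 0 * g 1 0 = 0) : ∃ A, S.Root A ∧ ∀ c : F, A ≠ c • 1 := by
  obtain ⟨hA, -, -⟩ := S.invol_facts hg hgg
  set A := g 1 0 with hAdef
  set h := g * !![1, (1 : F) • 1; 0, 1] * sigma hb g with hh
  have hm : h ∈ Ms := S.conj_upper_mem hg
  have e10 : h 1 0 = A * A := by rw [hh, S.conj_upper hg]; simp [← hAdef, hA]
  have e00 : h 0 0 = 1 + g 0 0 * A := by rw [hh, S.conj_upper hg]; simp [← hAdef, hA]
  have hadj : adj hb (A * A) = A * A := by rw [adj_mul, hA, neg_mul_neg]
  set x := h * !![1, (1 : F) • 1; 0, 1] * sigma hb h with hx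
  have xm : x ∈ Ms := S.conj_upper_mem hm
  have h4 : A * A * (A * A) = 0 := by rw [← mul_assoc, h3, zero_mul]
  have x10 : x 1 0 = 0 := by rw [hx, S.conj_upper hm]; simp [e10, hadj, h4]
  have x00 : x 0 0 = 1 - A * A := by
    rw [hx, S.conj_upper hm]
    have h3' : A * (A * A) = 0 := by rw [← mul_assoc, h3]
    simp [e00, e10, hadj, add_mul, mul_assoc, h3']
  have hz := S.conj_upper_mem xm
  rw [S.conj_upper xm, x10, x00, adj_zero, mul_zero, mul_zero, zero_mul, neg_zero, sub_zero, add_zero] at hz
  refine ⟨_, hz, fun c hc => h2 ?_⟩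
  rw [adj_sub, adj_one, hadj, mul_sub, sub_mul, sub_mul, one_mul, mul_one, one_mul, h4, sub_zero] at hc
  have h5 : (2 : F) • (A * A) = (1 - c) • (1 : Module.End F W) := by linear_combination (norm := module) -hc
  have h6 : ((1 - c) * (1 - c)) • (1 : Module.End F W) = 0 := by
    have := congrArg (fun Z => Z * Z) h5
    simp only [smul_mul_smul_comm, h4, smul_zero, one_mul] at this
    exact this.symm
  rcases smul_eq_zero.1 h6 with h7 | h7
  · rw [mul_self_eq_zero.1 h7, zero_smul] at h5
    exact (smul_eq_zero.1 h5).resolve_left hb.two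
  · rw [← one_mul (A * A), h7, zero_mul]

theorem rank_one {X : Blk F W} (hX : X ∈ Ms) {w : W} (hw : b w w ≠ 0)
    (hpp : b (adj hb (X 0 0) w) (adj hb (X 0 0) w) ≠ 0) (hps : b (adj hb (X 0 0) w) (adj hb (X 1 0) w) = 0)
    (hss : b (adj hb (X 1 0) w) (adj hb (X 1 0) w) = 0) (hs : adj hb (X 1 0) w ≠ 0) :
    ∃ A, S.Root A ∧ ∀ c : F, A ≠ c • 1 := by
  obtain ⟨e2, e3⟩ := skw_sq_of hb (k := 2 / b w w) hps hss
  refine S.root_of_nil (S.invol_mem hX hw) (S.invol_sq hX hw) ?_ (by rw [S.invol_corner hX]; exact e3)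
  rw [S.invol_corner hX, e2]
  intro h0
  have h2 := hb.two
  rcases smul_eq_zero.1 h0 with h1 | h1
  · simp [h2, hw, hpp] at h1
  · obtain ⟨y, hy⟩ : ∃ y, b (adj hb (X 1 0) w) y ≠ 0 := by
      by_contra hc
      push Not at hc
      exact hs (hb.nondeg.1 _ hc)
    have := LinearMap.congr_fun h1 y
    rw [op_apply, LinearMap.zero_apply, smul_eq_zero] at this
    exact this.elim hy hs

/-- The hypothesis on totally isotropic planes. -/
def NoPlane (_S : Setting hb Ms) : Prop :=
  5 ≤ finrank F W ∨ ∀ p s : W, b p p = 0 → b p s = 0 → b s s = 0 → ¬ LinearIndependent F ![p, s]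

/-- A totally isotropic image plane. -/
theorem isotropic_case (hN : S.NoPlane) {X : Blk F W} (hX : X ∈ Ms) {w : W} (hw : b w w ≠ 0)
    (hpp : b (adj hb (X 0 0) w) (adj hb (X 0 0) w) = 0) (hps : b (adj hb (X 0 0) w) (adj hb (X 1 0) w) = 0)
    (hss : b (adj hb (X 1 0) w) (adj hb (X 1 0) w) = 0)
    (hind : LinearIndependent F ![adj hb (X 0 0) w, adj hb (X 1 0) w]) :
    ∃ A, S.Root A ∧ ∀ c : F, A ≠ c • 1 := by
  have h2 := hb.two
  have hn : 5 ≤ finrank F W := hN.resolve_right fun h => h _ _ hpp hps hss hind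
  have hg := S.invol_mem hX hw
  obtain ⟨hA, -, -⟩ := S.invol_facts hg (S.invol_sq hX hw)
  set p := adj hb (X 0 0) w with hp
  set s := adj hb (X 1 0) w with hs
  set g := S.invol X w with hgdef
  set G := adj hb (g 0 0) with hG
  set A := g 1 0 with hAdef
  have hAx : ∀ x, A x = (2 / b w w) • (b p x • s - b s x • p) := fun x => by
    rw [hAdef, hgdef, S.invol_corner hX]; rfl
  have hGx : ∀ x, G x = x - (2 / b w w) • (b (adj hb (X 1 1) w) x • p - b (adj hb (X 0 1) w) x • s) := fun x => by
    rw [hG, hgdef, S.invol_corner_top hX]; rfl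
  have hsp : b s p = 0 := by rw [hb.symm, hps]
  have hU : ∀ (a c a' c' : F), b (a • p + c • s) (a' • p + c' • s) = 0 := fun a c a' c' => by
    simp [hpp, hps, hsp, hss]
  have hk0 : (2 / b w w : F) ≠ 0 := div_ne_zero h2 hw
  have hA0 : ∀ x, A x = 0 → b p x = 0 ∧ b s x = 0 := fun x hx => by
    rw [hAx, smul_eq_zero] at hx
    have hx' := hx.resolve_left hk0
    have := LinearIndependent.pair_iff.1 hind (-b s x) (b p x) (by linear_combination (norm := module) hx')
    exact ⟨this.2, by simpa using this.1⟩
  obtain ⟨w', hw', hAw', hQ⟩ : ∃ w', b w' w' ≠ 0 ∧ A w' ≠ 0 ∧ b (G w') (G w') ≠ 0 := by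
    by_contra hc
    push Not at hc
    have hzero : ∀ w₀, A w₀ ≠ 0 → b (G w₀) (G w₀) = 0 := by
      intro w₀ hw₀
      obtain ⟨x, hxU, hL, hL2⟩ : ∃ x, (∃ a c : F, x = a • p + c • s) ∧ b w₀ x ≠ 0 ∧
          (b (G w₀) (G x) ≠ 0 ∨ ∀ a c : F, b (G w₀) (G (a • p + c • s)) = 0) := by
        by_cases hall : ∀ a c : F, b (G w₀) (G (a • p + c • s)) = 0
        · by_cases hp0 : b w₀ p = 0
          · refine ⟨s, ⟨0, 1, by simp⟩, fun h0 => hw₀ ?_, Or.inr hall⟩
            rw [hAx, hb.symm p, hb.symm s, hp0, h0]; simp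
          · exact ⟨p, ⟨1, 0, by simp⟩, hp0, Or.inr hall⟩
        · push Not at hall
          obtain ⟨a, c, hac⟩ := hall
          by_cases h1 : b w₀ (a • p + c • s) = 0
          · obtain ⟨a', c', h'⟩ : ∃ a' c' : F, b w₀ (a' • p + c' • s) ≠ 0 := by
              by_contra h''
              push Not at h''
              have e1 := h'' 1 0
              have e2 := h'' 0 1
              simp at e1 e2
              exact hw₀ (by rw [hAx, hb.symm p, hb.symm s, e1, e2]; simp)
            by_cases h3 : b (G w₀) (G (a' • p + c' • s)) = 0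
            · refine ⟨(a + a') • p + (c + c') • s, ⟨_, _, rfl⟩, ?_, Or.inl ?_⟩
              all_goals rw [show (a + a') • p + (c + c') • s = (a • p + c • s) + (a' • p + c' • s) by module]
              · rwa [map_add, h1, zero_add]
              · rwa [map_add, map_add, h3, add_zero]
            · exact ⟨_, ⟨a', c', rfl⟩, h', Or.inl h3⟩
          · exact ⟨_, ⟨a, c, rfl⟩, h1, Or.inl hac⟩
      obtain ⟨a, c, rfl⟩ := hxU
      set x := a • p + c • s with hx
      have hAx0 : A x = 0 := by rw [hAx]; simp [hx, hpp, hps, hsp, hss]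
      have hxx : b x x = 0 := hU a c a c
      have hGxx : b (G x) (G x) = 0 := by
        rw [hGx]
        rw [show x - (2 / b w w) • (b (adj hb (X 1 1) w) x • p - b (adj hb (X 0 1) w) x • s) =
          (a - 2 / b w w * b (adj hb (X 1 1) w) x) • p + (c + 2 / b w w * b (adj hb (X 0 1) w) x) • s by
            rw [hx]; module]
        exact hU _ _ _ _
      have key : ∀ t : F, (b w₀ w₀ + t * (2 * b w₀ x) = 0 ∨
          b (G w₀) (G w₀) + t * (2 * b (G w₀) (G x)) = 0) := by
        intro t
        by_contra hh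
        push Not at hh
        refine hh.2 ?_
        have := hc (w₀ + t • x) (by
          simp [hxx, hb.symm x w₀]; intro h0; exact hh.1 (by linear_combination h0))
          (by rwa [map_add, map_smul, hAx0, smul_zero, add_zero])
        simp [hGxx, hb.symm (G x) (G w₀)] at this
        linear_combination this
      by_contra hQ0
      rcases hL2 with hL2 | hall
      · rcases key 0 with h0 | h0 <;> rcases key 1 with h1 | h1 <;> rcases key (-1) with h3 | h3 <;>
          first
          | exact hQ0 (by linear_combination h0)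
          | exact mul_ne_zero h2 hL (by linear_combination h1 - h0)
          | exact mul_ne_zero h2 hL (by linear_combination h0 - h3)
          | exact mul_ne_zero h2 hL2 (by linear_combination h1 - h0)
          | exact mul_ne_zero h2 hL2 (by linear_combination h0 - h3)
          | exact mul_ne_zero (mul_ne_zero h2 h2) hL2 (by linear_combination h1 - h3)
      · have hz := hall a c
        rw [← hx] at hz
        rcases key 0 with h0 | h0
        · rcases key 1 with h1 | h1
          · exact mul_ne_zero h2 hL (by linear_combination h1 - h0)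
          · exact hQ0 (by rw [hz] at h1; linear_combination h1)
        · exact hQ0 (by linear_combination h0)
    obtain ⟨w₀, hw₀⟩ : ∃ w₀, A w₀ ≠ 0 := by
      by_contra h
      push Not at h
      have := (hA0 w (h w)).1
      obtain ⟨y, hy⟩ : ∃ y, b p y ≠ 0 := by
        by_contra h'
        push Not at h'
        exact hind.ne_zero 0 (hb.nondeg.1 p h')
      exact hy (hA0 y (h y)).1
    set K := LinearMap.BilinForm.orthogonal b (Submodule.span F {p, s}) with hK
    have hKmem : ∀ k, k ∈ K → b p k = 0 ∧ b s k = 0 := fun k hk =>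
      ⟨hk p (Submodule.subset_span (Set.mem_insert _ _)),
        hk s (Submodule.subset_span (Set.mem_insert_of_mem _ rfl))⟩
    have hKiso : ∀ k ∈ K, b k k = 0 := by
      intro k hk
      obtain ⟨hpk, hsk⟩ := hKmem k hk
      have hAk : A k = 0 := by rw [hAx, hpk, hsk]; simp
      have e0 := hzero w₀ hw₀
      have e1 := hzero (w₀ + k) (by rwa [map_add, hAk, add_zero])
      have e2 := hzero (w₀ - k) (by rwa [map_sub, hAk, sub_zero])
      have e3 : b (G k) (G k) = b k k := by
        rw [hGx]; simp [hpp, hps, hsp, hss, hpk, hsk, hb.symm k p, hb.symm k s]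
      simp [hb.symm (G k) (G w₀)] at e1 e2
      rw [← e3]
      refine (mul_eq_zero.1 (show (2 : F) * b (G k) (G k) = 0 by linear_combination e1 + e2 - 2 * e0)).resolve_left h2
    have hKK : K ≤ LinearMap.BilinForm.orthogonal b K := fun x hx y hy => by
      have e1 := hKiso (x + y) (K.add_mem hx hy)
      simp [hKiso x hx, hKiso y hy, hb.symm y x] at e1
      show b y x = 0
      rw [hb.symm]
      exact (mul_eq_zero.1 (show (2 : F) * b x y = 0 by linear_combination e1)).resolve_left h2
    have hrefl : b.IsRefl := fun x y h => by rw [hb.symm]; exact h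
    rw [hK, LinearMap.BilinForm.orthogonal_orthogonal hb.nondeg hrefl, ← hK] at hKK
    have h4 := Submodule.finrank_mono hKK
    have h5 : finrank F (Submodule.span F ({p, s} : Set W)) ≤ 2 := by
      classical
      have := finrank_span_finset_le_card (R := F) ({p, s} : Finset W)
      rw [Finset.coe_pair] at this
      exact this.trans Finset.card_le_two
    have h6 := LinearMap.BilinForm.finrank_orthogonal hb.nondeg (Submodule.span F {p, s})
    rw [← hK] at h6
    omega
  have hs' : adj hb (g 1 0) w' = -(A w') := by rw [← hAdef, hA]; rfl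
  have hGU : ∀ z, b (A w') z = 2 / b w w * (b p w' * b s z - b s w' * b p z) := fun z => by
    rw [hAx]; simp
  refine S.rank_one hg hw' hQ ?_ ?_ ?_
  · rw [hs', ← hG, hb.symm]
    simp only [map_neg, LinearMap.neg_apply, hGU, hGx w', map_sub, map_smul, smul_eq_mul, hpp, hps, hsp, hss]
    ring
  · rw [hs']
    simp [hGU, hAx w', hpp, hps, hsp, hss]
  · rwa [hs', neg_ne_zero]

end Setting

end CfsgLib.TensorSympMax
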