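import Cfsg.Agent.Lib.TensorSympMax.PlaneFour

/-!
A group of block isometries containing the tensor stabiliser either preserves the decomposition or
contains every transvection.
-/

set_option autoImplicit false
set_option linter.unusedSectionVars false
set_option linter.unusedSimpArgs false

namespace CfsgLib.TensorSympMax

open LinearMap Module

variable {F : Type*} [Field F] {W : Type*} [AddCommGroup W] [Module F W] [FiniteDimensional F W]
  {b : LinearMap.BilinForm F W} {hb : Form b} {Ms : Set (Blk F W)}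

/-- A block matrix preserving the tensor decomposition. -/
def Pres (X : Blk F W) : Prop :=
  ∃ Y : Matrix (Fin 2) (Fin 2) F, ∃ B : Module.End F W, ∀ i j, X i j = Y i j • B

theorem skw_eq_zero_of_dep {p s : W} (k : F) (h : ¬ LinearIndependent F ![p, s]) : skw b k p s = 0 := by
  simp only [LinearIndependent.pair_iff, not_forall, not_and_or] at h
  obtain ⟨a, c, hac, hne⟩ := h
  have key : ∀ x, b p x • s - b s x • p = 0 := by
    intro x
    have h1 := congrArg (fun z => b z x) hac
    simp only [map_add, map_smul, LinearMap.add_apply, LinearMap.smul_apply, map_zero, LinearMap.zero_apply,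
      smul_eq_mul] at h1
    by_cases ha : a = 0
    · have hc : c ≠ 0 := by tauto
      rw [ha, zero_smul, zero_add] at hac
      have hs := (smul_eq_zero.1 hac).resolve_left hc
      simp [hs]
    · have hp : p = -(a⁻¹ * c) • s := by
        have h2 := congrArg (fun z => a⁻¹ • z) hac
        simp only [smul_add, smul_smul, inv_mul_cancel₀ ha, one_smul, smul_zero] at h2
        rw [neg_smul]
        exact eq_neg_of_add_eq_zero_left h2
      rw [hp]
      simp only [map_smul, LinearMap.smul_apply, smul_eq_mul]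
      module
  ext x
  rw [skw_apply, key, smul_zero, LinearMap.zero_apply]

theorem three_eq_zero [Fintype F] (hq : Fintype.card F = 3) : (3 : F) = 0 := by
  simpa [hq] using FiniteField.cast_card_eq_zero F

theorem eq_one_or_neg_one [Fintype F] (hq : Fintype.card F = 3) (x : F) (hx : x ≠ 0) : x = 1 ∨ x = -1 := by
  have h := FiniteField.pow_card_sub_one_eq_one x hx
  rw [hq, pow_two] at h
  exact mul_self_eq_one_iff.1 h

namespace Setting

variable (S : Setting hb Ms)
include S

theorem rot_mem : (!![0, 1; -1, 0] : Blk F W) ∈ Ms := by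
  have h := S.mul (S.mul (S.upper 1) (S.lower (-1))) (S.upper 1)
  simpa [Matrix.mul_fin_two] using h

theorem one_ne : (1 : Module.End F W) ≠ 0 := by
  intro h
  haveI : Nontrivial W := Module.finrank_pos_iff.1 (by have := S.dim; omega : 0 < finrank F W)
  obtain ⟨x, hx⟩ := exists_ne (0 : W)
  exact hx (by simpa using LinearMap.congr_fun h x)

/-- All contractions vanish when all pairs of images are dependent. -/
theorem invol_diag (hdep : ∀ X ∈ Ms, ∀ w, b w w ≠ 0 →
      ¬ LinearIndependent F ![adj hb (X 0 0) w, adj hb (X 1 0) w])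
    {X : Blk F W} (hX : X ∈ Ms) {w : W} (hw : b w w ≠ 0) :
    ∃ G, S.invol X w = !![G, 0; 0, G] := by
  have z : ∀ Y ∈ Ms, S.invol Y w 1 0 = 0 := fun Y hY => by
    rw [S.invol_corner hY, skw_eq_zero_of_dep _ (hdep Y hY w hw)]
  have conj : ∀ J ∈ Ms, S.invol (X * J) w = sigma hb J * S.invol X w * J := by
    intro J hJ
    have e : sigma hb (X * J) = sigma hb J * sigma hb X := by
      have h1 := S.sigma_mul (S.mul hX hJ)
      calc sigma hb (X * J) = sigma hb (X * J) * (X * (J * sigma hb J) * sigma hb X) := by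
            rw [S.mul_sigma hJ, mul_one, S.mul_sigma hX, mul_one]
        _ = sigma hb (X * J) * (X * J) * (sigma hb J * sigma hb X) := by simp only [mul_assoc]
        _ = _ := by rw [h1, one_mul]
    simp only [invol, e, mul_assoc]
  set g := S.invol X w with hg
  have h10 : g 1 0 = 0 := z X hX
  have h01 : g 0 1 = 0 := by
    have h := z _ (S.mul hX S.rot_mem)
    rw [conj _ S.rot_mem] at h
    simpa [sigma, adj_zero, adj_neg, adj_one, Matrix.mul_apply, Matrix.vecMul, dotProduct, Fin.sum_univ_two] using h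
  have h11 : g 1 1 = g 0 0 := by
    have h := z _ (S.mul hX (S.lower 1))
    rw [conj _ (S.lower 1)] at h
    simp [sigma, adj_zero, adj_neg, adj_one, Matrix.mul_apply, Matrix.vecMul, dotProduct, Fin.sum_univ_two, h10,
      h01] at h
    exact sub_eq_zero.1 (by rw [← h]; abel)
  refine ⟨g 0 0, ?_⟩
  ext i j : 1
  fin_cases i <;> fin_cases j <;> simp [h10, h01, h11]

theorem conj_scalar (hdep : ∀ X ∈ Ms, ∀ w, b w w ≠ 0 →
      ¬ LinearIndependent F ![adj hb (X 0 0) w, adj hb (X 1 0) w])
    {X : Blk F W} (hX : X ∈ Ms) (i j : Fin 2) :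
    ∃ l : F, (X * (!![1, (1 : F) • 1; 0, 1] : Blk F W) * sigma hb X) i j = l • 1 := by
  refine scalar_of_eigen hb S.dim _ fun w hw => ?_
  set U : Blk F W := !![1, (1 : F) • 1; 0, 1] with hU
  set R : Blk F W := !![refl b w, 0; 0, refl b w] with hR
  obtain ⟨G, hG⟩ := S.invol_diag hdep hX hw
  have hc : S.invol X w * U = U * S.invol X w := by
    rw [hG, hU]; simp [Matrix.mul_fin_two]
  have hcomm : X * U * sigma hb X * R = R * (X * U * sigma hb X) := by
    calc X * U * sigma hb X * R = X * U * sigma hb X * R * (X * sigma hb X) := by rw [S.mul_sigma hX, mul_one]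
      _ = X * (U * S.invol X w) * sigma hb X := by simp only [invol, ← hR, mul_assoc]
      _ = X * (S.invol X w * U) * sigma hb X := by rw [hc]
      _ = X * sigma hb X * R * (X * U * sigma hb X) := by simp only [invol, ← hR, mul_assoc]
      _ = _ := by rw [S.mul_sigma hX, one_mul]
  set A := (X * U * sigma hb X) i j with hA
  have h := congrFun (congrFun hcomm i) j
  have hAR : A * refl b w = refl b w * A := by
    rw [hA]
    fin_cases i <;> fin_cases j <;> simpa [hR, Matrix.mul_apply, Fin.sum_univ_two] using h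
  have h2 := hb.two
  have e := LinearMap.congr_fun hAR w
  rw [Module.End.mul_apply, Module.End.mul_apply, refl_apply, refl_apply, map_sub, map_smul,
    div_mul_cancel₀ _ hw] at e
  refine ⟨b w (A w) / b w w, ?_⟩
  have e' : (2 : F) • A w = (2 : F) • ((b w (A w) / b w w) • w) := by
    rw [smul_smul]
    linear_combination (norm := (simp only [div_eq_mul_inv]; module)) -e
  exact smul_right_injective W h2 e'

theorem column (hdep : ∀ X ∈ Ms, ∀ w, b w w ≠ 0 →
      ¬ LinearIndependent F ![adj hb (X 0 0) w, adj hb (X 1 0) w])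
    {X : Blk F W} (hX : X ∈ Ms) :
    ∃ (y₀ y₁ δ : F) (B : Module.End F W), δ ≠ 0 ∧ B * adj hb B = δ • 1 ∧ X 0 0 = y₀ • B ∧ X 1 0 = y₁ • B := by
  obtain ⟨α, hα⟩ := S.conj_scalar hdep hX 0 1
  obtain ⟨β₀, hβ₀⟩ := S.conj_scalar hdep hX 0 0
  obtain ⟨β₁, hβ₁⟩ := S.conj_scalar hdep hX 1 1
  obtain ⟨γ, hγ⟩ := S.conj_scalar hdep hX 1 0
  have hc := S.conj_upper hX
  rw [hc] at hα hβ₀ hβ₁ hγ
  simp at hα hβ₀ hβ₁ hγ
  have e01 : X 0 0 * adj hb (X 1 0) = (1 - β₀) • 1 := by linear_combination (norm := module) -hβ₀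
  have e10 : X 1 0 * adj hb (X 0 0) = (β₁ - 1) • 1 := by linear_combination (norm := module) hβ₁
  have e11 : X 1 0 * adj hb (X 1 0) = (-γ) • 1 := by linear_combination (norm := module) -hγ
  have prop : ∀ (A C : Module.End F W) (a c : F), a ≠ 0 → A * adj hb A = a • 1 → C * adj hb A = c • 1 →
      C = (c / a) • A := by
    intro A C a c ha hAA hCA
    have h1 : (a⁻¹ • A) * adj hb A = 1 := by rw [smul_mul_assoc, hAA, smul_smul, inv_mul_cancel₀ ha, one_smul]
    have h2 := mul_eq_one_comm.1 h1
    rw [mul_smul_comm] at h2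
    calc C = C * (a⁻¹ • (adj hb A * A)) := by rw [h2, mul_one]
      _ = (c / a) • A := by
        rw [mul_smul_comm, ← mul_assoc, hCA, smul_mul_assoc, one_mul, smul_smul, div_eq_inv_mul]
  by_cases h0 : α = 0
  · by_cases h1 : γ = 0
    · exfalso
      rw [h1, neg_zero, zero_smul] at e11
      rw [h0, zero_smul] at hα
      have hp : ∀ {A : Module.End F W} {B : Module.End F W} {l : F}, A * adj hb A = 0 → A * adj hb B = l • 1 →
          l = 0 := by
        intro A B l hAA hAB
        by_contra hl
        have h1 : A * (l⁻¹ • adj hb B) = 1 := by rw [mul_smul_comm, hAB, smul_smul, inv_mul_cancel₀ hl, one_smul]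
        have h2 := mul_eq_one_comm.1 h1
        have hA : adj hb A = 0 := by
          rw [← one_mul (adj hb A), ← h2, mul_assoc, hAA, mul_zero]
        have h3 := congrArg (adj hb) hA
        rw [adj_adj, adj_zero] at h3
        rw [h3, zero_mul] at h1
        exact S.one_ne h1.symm
      have l0 := hp hα e01
      have l1 := hp e11 e10
      rw [l0, zero_smul] at e01
      rw [l1, zero_smul] at e10
      have hz : X * corner (1 : Module.End F W) * sigma hb X = 0 := by
        ext i j : 1
        fin_cases i <;> fin_cases j <;>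
          simp [corner, sigma, Matrix.mul_apply, Fin.sum_univ_two, hα, e01, e10, e11]
      have h' : sigma hb X * (X * corner (1 : Module.End F W) * sigma hb X) * X = 0 := by
        rw [hz, mul_zero, zero_mul]
      rw [show sigma hb X * (X * corner (1 : Module.End F W) * sigma hb X) * X =
        sigma hb X * X * corner 1 * (sigma hb X * X) by simp only [mul_assoc], S.sigma_mul hX, one_mul, mul_one] at h'
      exact S.one_ne (by simpa [corner] using congrFun (congrFun h' 0) 1)
    · exact ⟨_, 1, -γ, X 1 0, neg_ne_zero.2 h1, e11, prop _ _ _ _ (neg_ne_zero.2 h1) e11 e01, (one_smul F _).symm⟩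
  · exact ⟨1, _, α, X 0 0, h0, hα, (one_smul F _).symm, prop _ _ _ _ h0 hα e10⟩

theorem pres_of_dep (hdep : ∀ X ∈ Ms, ∀ w, b w w ≠ 0 →
      ¬ LinearIndependent F ![adj hb (X 0 0) w, adj hb (X 1 0) w])
    {X : Blk F W} (hX : X ∈ Ms) : Pres X := by
  obtain ⟨y₀, y₁, δ, B, -, -, h00, h10⟩ := S.column hdep hX
  obtain ⟨z₀, z₁, ε, C, hε, hC, h01', h11'⟩ := S.column hdep (S.mul hX S.rot_mem)
  simp [Matrix.mul_apply, Fin.sum_univ_two] at h01' h11'
  have h01 : X 0 1 = (-z₀) • C := by rw [neg_smul, ← h01', neg_neg]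
  have h11 : X 1 1 = (-z₁) • C := by rw [neg_smul, ← h11', neg_neg]
  have e := congrFun (congrFun (S.sigma_mul hX) 0) 0
  simp [sigma, Matrix.mul_apply, Fin.sum_univ_two, h00, h10, h01, h11, adj_smul, adj_neg, smul_smul] at e
  set d := -(z₁ * y₀) + z₀ * y₁ with hd
  have e' : d • (adj hb C * B) = 1 := by rw [← e, hd]; module
  have hB : ∃ l : F, C = l • B := by
    refine ⟨ε * d, ?_⟩
    have h1 : C * (d • (adj hb C * B)) = (d * ε) • B := by
      rw [mul_smul_comm, ← mul_assoc, hC, smul_mul_assoc, one_mul, smul_smul]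
    rw [e', mul_one] at h1
    rwa [mul_comm]
  obtain ⟨l, rfl⟩ := hB
  refine ⟨!![y₀, -z₀ * l; y₁, -z₁ * l], B, ?_⟩
  intro i j
  fin_cases i <;> fin_cases j <;> simp [h00, h10, h01, h11, smul_smul]

theorem exists_root [Fintype F] (hN : S.NoPlane) (hbig : 5 ≤ finrank F W ∨ 5 ≤ Fintype.card F ∨ (4 ≤ finrank F W ∧ Fintype.card F = 3))
    {X : Blk F W} (hX : X ∈ Ms) {w : W} (hw : b w w ≠ 0)
    (hind : LinearIndependent F ![adj hb (X 0 0) w, adj hb (X 1 0) w]) :
    ∃ A, S.Root A ∧ ∀ c : F, A ≠ c • 1 := by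
  classical
  by_cases hg : gram b (adj hb (X 0 0) w) (adj hb (X 1 0) w) = 0
  · exact S.degenerate_case hN hX hw hind hg
  have D : PlaneData S (S.invol X w) (2 / b w w) (adj hb (X 0 0) w) (adj hb (X 1 0) w) :=
    ⟨S.invol_mem hX hw, S.invol_sq hX hw, div_ne_zero hb.two hw, S.invol_corner hX _, hg⟩
  by_cases h3 : (3 : F) = 0
  · rcases hbig with h5 | h5 | ⟨h4, hq⟩
    · exact D.root_of_three (Or.inl h5) h3 (exists_isotropic_perp hb _ _ h5)
    · obtain ⟨t, -, ht⟩ := Finset.exists_mem_notMem_of_card_lt_card (s := ({0, 1, -1} : Finset F))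
        (t := Finset.univ) (lt_of_le_of_lt Finset.card_le_three (by rw [Finset.card_univ]; omega))
      simp only [Finset.mem_insert, Finset.mem_singleton, not_or] at ht
      exact D.root_of_sq ht.1 fun h => by
        rcases mul_self_eq_one_iff.1 h with h1 | h1
        exacts [ht.2.1 h1, ht.2.2 h1]
    · rcases hN with h5 | hno
      · exact D.root_of_three (Or.inl h5) h3 (exists_isotropic_perp hb _ _ h5)
      · exact D.root_of_three_four (eq_one_or_neg_one hq) h3 h4 hno
  · exact D.root_of_sq hb.two fun h => h3 (by linear_combination h)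

/-- The dichotomy. -/
theorem dichotomy [Fintype F] (hN : S.NoPlane) (hbig : 5 ≤ finrank F W ∨ 5 ≤ Fintype.card F ∨ (4 ≤ finrank F W ∧ Fintype.card F = 3)) :
    (∀ X ∈ Ms, Pres X) ∨ ∀ v : W × W, v ∈ centres b Ms := by
  by_cases hdep : ∀ X ∈ Ms, ∀ w, b w w ≠ 0 → ¬ LinearIndependent F ![adj hb (X 0 0) w, adj hb (X 1 0) w]
  · exact Or.inl fun X hX => S.pres_of_dep hdep hX
  · push Not at hdep
    obtain ⟨X, hX, w, hw, hind⟩ := hdep
    obtain ⟨A, hA, hns⟩ := S.exists_root hN hbig hX hw hind
    obtain ⟨i, hi0, hii, hi⟩ : ∃ i : W, i ≠ 0 ∧ b i i = 0 ∧ (i, (0 : W)) ∈ centres b Ms := by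
      rcases hbig with h5 | h5 | ⟨h4, hq⟩
      · exact S.exists_centre (Or.inl h5) hA hns
      · exact S.exists_centre (Or.inr h5) hA hns
      · rcases hN with h5 | hno
        · exact S.exists_centre (Or.inl h5) hA hns
        · exact S.exists_centre_three (eq_one_or_neg_one hq) (three_eq_zero hq) h4 hno hA hns
    exact Or.inr fun v => S.all_centres hii hi0 hi v

end Setting

end CfsgLib.TensorSympMax
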