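import Cfsg.Agent.Lib.TensorSympMax.Dichotomy
import Cfsg.Agent.Lib.GeomClasses.Symp
import Cfsg.Agent.Lib.Maximal.TensorTools

/-!
Maximality of the stabiliser of a tensor decomposition of a symplectic space as a plane tensor an
orthogonal space.
-/

set_option autoImplicit false
set_option linter.unusedSectionVars false
set_option linter.unusedSimpArgs false

namespace CfsgLib.TensorSympMax.Transfer

open Matrix Module
open CfsgLib.Maximal.TensorTools (coord)
open CfsgLib.Maximal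
open CfsgLib.TensorSympMax (Blk Form act phi tv Pres sigma Setting)
open scoped Kronecker

variable {F : Type*} [Field F] {m n : ℕ}

/-- The vector space of the second factor. -/
local notation "W₀" => (Fin n → F)

/-- The data of a decomposition. -/
structure Decomp (m n : ℕ) (F : Type*) [Field F] where
  e : (Fin m ⊕ Fin m) ≃ Fin 2 × Fin n
  P : GL (Fin m ⊕ Fin m) F

/-- A pair of vectors as a vector indexed by pairs. -/
def pairEquiv (n : ℕ) (F : Type*) [Field F] : ((Fin n → F) × (Fin n → F)) ≃ₗ[F] (Fin 2 × Fin n → F) where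
  toFun x a := if a.1 = 0 then x.1 a.2 else x.2 a.2
  invFun y := (fun j => y (0, j), fun j => y (1, j))
  map_add' x y := by funext a; by_cases h : a.1 = 0 <;> simp [h]
  map_smul' c x := by funext a; by_cases h : a.1 = 0 <;> simp [h]
  left_inv x := by ext <;> simp
  right_inv y := by
    funext ⟨i, j⟩
    fin_cases i <;> simp

theorem pairEquiv_eq (x : W₀ × W₀) :
    pairEquiv n F x = TensorTools.pure (Pi.single 0 1) x.1 + TensorTools.pure (Pi.single 1 1) x.2 := by
  funext ⟨i, j⟩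
  fin_cases i <;> simp [pairEquiv, TensorTools.pure]

variable (D : Decomp m n F)

/-- The coordinates. -/
noncomputable def coe : (W₀ × W₀) ≃ₗ[F] (Fin m ⊕ Fin m → F) :=
  (pairEquiv n F).trans (coord D.e D.P)

/-- A block matrix represents a matrix. -/
def Rep (g : GL (Fin m ⊕ Fin m) F) (X : Blk F W₀) : Prop :=
  ∀ u, coe D (act X u) = (g : Matrix (Fin m ⊕ Fin m) (Fin m ⊕ Fin m) F) *ᵥ coe D u

theorem rep_unique {g : GL (Fin m ⊕ Fin m) F} {X X' : Blk F W₀} (h : Rep D g X) (h' : Rep D g X') : X = X' :=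
  act_ext fun u => (coe D).injective ((h u).trans (h' u).symm)

theorem eq_of_rep {g g' : GL (Fin m ⊕ Fin m) F} {X : Blk F W₀} (h : Rep D g X) (h' : Rep D g' X) : g = g' := by
  refine Units.ext (Matrix.ext_iff_mulVec.2 fun v => ?_)
  obtain ⟨u, rfl⟩ := (coe D).surjective v
  rw [← h u, ← h' u]

/-- The block matrix of a Kronecker product. -/
noncomputable def blk (Y : Matrix (Fin 2) (Fin 2) F) (B : Module.End F W₀) : Blk F W₀ :=
  Matrix.of fun i j => Y i j • B

/-- A Kronecker product as a unit. -/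
noncomputable def kr (a : GL (Fin 2) F) (c : GL (Fin n) F) : GL (Fin 2 × Fin n) F :=
  ⟨(a : Matrix _ _ F) ⊗ₖ (c : Matrix _ _ F), ((a⁻¹ : GL _ F) : Matrix _ _ F) ⊗ₖ ((c⁻¹ : GL _ F) : Matrix _ _ F),
    by rw [← Matrix.mul_kronecker_mul, ← Units.val_mul, ← Units.val_mul, mul_inv_cancel, mul_inv_cancel,
      Units.val_one, Units.val_one, Matrix.one_kronecker_one],
    by rw [← Matrix.mul_kronecker_mul, ← Units.val_mul, ← Units.val_mul, inv_mul_cancel, inv_mul_cancel,
      Units.val_one, Units.val_one, Matrix.one_kronecker_one]⟩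

theorem kr_val (a : GL (Fin 2) F) (c : GL (Fin n) F) :
    (kr a c : Matrix (Fin 2 × Fin n) (Fin 2 × Fin n) F) = (a : Matrix _ _ F) ⊗ₖ (c : Matrix _ _ F) := rfl

/-- The element of the tensor stabiliser with given factors. -/
noncomputable def elem (a : GL (Fin 2) F) (c : GL (Fin n) F) : GL (Fin m ⊕ Fin m) F :=
  MulAut.conj D.P (Cfsg.Geo.glReindex D.e.symm (kr a c))

theorem elem_mem (a : GL (Fin 2) F) (c : GL (Fin n) F) :
    elem D a c ∈ Cfsg.Geo.tensorProductSubgroup 2 n D.e D.P :=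
  Subgroup.mem_map_of_mem _ (Subgroup.mem_map_of_mem _ ⟨a, c, rfl⟩)

theorem rep_elem (a : GL (Fin 2) F) (c : GL (Fin n) F) :
    Rep D (elem D a c) (blk (a : Matrix _ _ F) (Matrix.toLin' (c : Matrix _ _ F))) := by
  intro u
  simp only [coe, LinearEquiv.trans_apply]
  rw [elem, CfsgLib.Maximal.TensorTools.conj_reindex_mulVec]
  congr 1
  rw [pairEquiv_eq u, kr_val, Matrix.mulVec_add, CfsgLib.Maximal.TensorTools.kronecker_mulVec_pure,
    CfsgLib.Maximal.TensorTools.kronecker_mulVec_pure]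
  funext ⟨i, j⟩
  fin_cases i <;> simp [pairEquiv, act, blk, TensorTools.pure, Matrix.mulVec, dotProduct, Fin.sum_univ_two, Pi.single_apply]

theorem exists_rep {g : GL (Fin m ⊕ Fin m) F} (hg : g ∈ Cfsg.Geo.tensorProductSubgroup 2 n D.e D.P) :
    ∃ X, Rep D g X ∧ Pres X := by
  obtain ⟨_, ⟨k, ⟨a, c, hk⟩, rfl⟩, rfl⟩ := hg
  refine ⟨blk (a : Matrix _ _ F) (Matrix.toLin' (c : Matrix _ _ F)), ?_, ⟨_, _, fun i j => rfl⟩⟩
  have : k = kr a c := Units.ext hk
  subst this
  exact rep_elem D a c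

variable [Fintype F] {f₁ : (Fin 2 → F) → (Fin 2 → F) → F} {f₂ : (Fin n → F) → (Fin n → F) → F}

/-- The form on the second factor. -/
noncomputable def form (h₂ : Cfsg.Geo.IsSymmetricForm f₂) (k : F) : LinearMap.BilinForm F W₀ :=
  LinearMap.mk₂ F (fun x y => k * f₂ x y) (fun x x' y => by rw [h₂.bilinear.add_left, mul_add])
    (fun c x y => by rw [h₂.bilinear.smul_left, smul_eq_mul]; ring)
    (fun x y y' => by rw [h₂.bilinear.add_right, mul_add])
    (fun c x y => by rw [h₂.bilinear.smul_right, smul_eq_mul]; ring)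

theorem form_form (h₂ : Cfsg.Geo.IsSymmetricForm f₂) {k : F} (hk : k ≠ 0) (h2 : (2 : F) ≠ 0) :
    Form (form h₂ k) where
  symm x y := by simp [form, h₂.symm x y]
  nondeg := by
    constructor <;> intro x hx <;> by_contra hne
    · obtain ⟨y, hy⟩ := (h₂.nondegenerate x hne).2
      exact mul_ne_zero hk hy (hx y)
    · obtain ⟨y, hy⟩ := (h₂.nondegenerate x hne).1
      exact mul_ne_zero hk hy (hx y)
  two := h2

theorem exists_form (h₁ : Cfsg.Geo.IsSymplecticForm f₁) (h₂ : Cfsg.Geo.IsSymmetricForm f₂)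
    (hT : Cfsg.Geo.IsTensorFormStructure id (Cfsg.sympForm m F) f₁ f₂ D.e D.P) (h2 : (2 : F) ≠ 0) :
    ∃ k, ∃ hb : Form (form h₂ k), ∀ u v,
      Cfsg.sympForm m F (coe D u) (coe D v) = phi (form h₂ k) u v := by
  obtain ⟨c, hc, h⟩ := CfsgLib.Maximal.TensorTools.tensor_form_pure h₁.bilinear h₂.bilinear hT
  set d := f₁ (Pi.single 0 1) (Pi.single 1 1) with hd
  have hd0 : d ≠ 0 := by
    intro h0
    obtain ⟨⟨x, hx⟩, -⟩ := h₁.nondegenerate (Pi.single 0 1) (by simp)
    apply hx
    rw [show x = x 0 • Pi.single 0 (1 : F) + x 1 • Pi.single 1 (1 : F) by funext i; fin_cases i <;> simp,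
      h₁.bilinear.add_left, h₁.bilinear.smul_left, h₁.bilinear.smul_left, h₁.alternating,
      h₁.skew (Pi.single 1 1) (Pi.single 0 1), ← hd, h0]
    simp
  refine ⟨c * d, form_form h₂ (mul_ne_zero hc hd0) h2, fun u v => ?_⟩
  have hs := CfsgLib.GeomClasses.Symp.isSymplecticForm_sympForm (F := F) m
  simp only [coe, LinearEquiv.trans_apply, pairEquiv_eq, map_add]
  rw [hs.bilinear.add_left, hs.bilinear.add_right, hs.bilinear.add_right, h, h, h, h, h₁.alternating,
    h₁.alternating, h₁.skew (Pi.single 1 1) (Pi.single 0 1), ← hd]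
  simp [phi, form]
  ring


theorem sigma_mul_of_isometry {b : LinearMap.BilinForm F W₀} (hb : Form b) {X : Blk F W₀}
    (hX : ∀ u v, phi b (act X u) (act X v) = phi b u v) : sigma hb X * X = 1 := by
  refine act_ext fun v => ?_
  rw [act_mul, act_one]
  set z := act (sigma hb X) (act X v) with hz
  have h : ∀ u, phi b u z = phi b u v := fun u => by rw [hz, ← phi_sigma hb, hX]
  refine Prod.ext (hb.ext_left fun y => ?_) (hb.ext_left fun y => ?_)
  · have := h (0, y)
    simp [phi, hb.symm y] at this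
    exact this
  · have := h (y, 0)
    simp [phi, hb.symm y] at this
    exact this

/-- The block matrices of the elements of a subgroup. -/
def blocks (M : Subgroup (GL (Fin m ⊕ Fin m) F)) : Set (Blk F W₀) := {X | ∃ g ∈ M, Rep D g X}

theorem blocks_isometry {M : Subgroup (GL (Fin m ⊕ Fin m) F)} (hM : M ≤ Cfsg.spGL m F)
    {b : LinearMap.BilinForm F W₀} (hc : ∀ u v, Cfsg.sympForm m F (coe D u) (coe D v) = phi b u v)
    {g : GL (Fin m ⊕ Fin m) F} (hg : g ∈ M) {X : Blk F W₀} (hX : Rep D g X) (u v : W₀ × W₀) :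
    phi b (act X u) (act X v) = phi b u v := by
  rw [← hc, ← hc, hX u, hX v]
  exact hM hg _ _

theorem elem_blocks {M : Subgroup (GL (Fin m ⊕ Fin m) F)}
    (hM : Cfsg.Geo.tensorProductSubgroup 2 n D.e D.P ⊓ Cfsg.spGL m F ≤ M)
    {b : LinearMap.BilinForm F W₀} (hc : ∀ u v, Cfsg.sympForm m F (coe D u) (coe D v) = phi b u v)
    (a : GL (Fin 2) F) (c : GL (Fin n) F) {X : Blk F W₀}
    (hX : X = blk (a : Matrix _ _ F) (Matrix.toLin' (c : Matrix _ _ F)))
    (hiso : ∀ u v, phi b (act X u) (act X v) = phi b u v) : X ∈ blocks D M := by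
  subst hX
  refine ⟨elem D a c, hM ⟨elem_mem D a c, fun x y => ?_⟩, rep_elem D a c⟩
  obtain ⟨u, rfl⟩ := (coe D).surjective x
  obtain ⟨v, rfl⟩ := (coe D).surjective y
  show Cfsg.sympForm m F ((elem D a c : Matrix _ _ F) *ᵥ coe D u) ((elem D a c : Matrix _ _ F) *ᵥ coe D v) = _
  rw [← rep_elem D a c u, ← rep_elem D a c v, hc, hc, hiso]

theorem diag_blocks {M : Subgroup (GL (Fin m ⊕ Fin m) F)}
    (hM : Cfsg.Geo.tensorProductSubgroup 2 n D.e D.P ⊓ Cfsg.spGL m F ≤ M)
    {b : LinearMap.BilinForm F W₀} (hb : Form b)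
    (hc : ∀ u v, Cfsg.sympForm m F (coe D u) (coe D v) = phi b u v) (w : W₀) (hw : b w w ≠ 0) :
    (!![refl b w, 0; 0, refl b w] : Blk F W₀) ∈ blocks D M :=
  elem_blocks D hM hc 1
    ⟨LinearMap.toMatrix' (refl b w), LinearMap.toMatrix' (refl b w),
      by rw [← LinearMap.toMatrix'_comp, ← Module.End.mul_eq_comp, refl_mul_self hw, LinearMap.toMatrix'_one],
      by rw [← LinearMap.toMatrix'_comp, ← Module.End.mul_eq_comp, refl_mul_self hw, LinearMap.toMatrix'_one]⟩
    (by ext i j : 1; fin_cases i <;> fin_cases j <;> simp [blk])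
    (fun u v => by simp [phi, act, refl_isometry hb hw])

theorem setting (hn : 3 ≤ n) {M : Subgroup (GL (Fin m ⊕ Fin m) F)}
    (hM : Cfsg.Geo.tensorProductSubgroup 2 n D.e D.P ⊓ Cfsg.spGL m F ≤ M) (hM' : M ≤ Cfsg.spGL m F)
    {b : LinearMap.BilinForm F W₀} (hb : Form b)
    (hc : ∀ u v, Cfsg.sympForm m F (coe D u) (coe D v) = phi b u v) :
    TensorSympMax.Setting hb (blocks D M) where
  dim := by rw [Module.finrank_fin_fun]; exact hn
  one := ⟨1, M.one_mem, fun u => by simp [act_one]⟩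
  mul := by
    rintro X Y ⟨g, hg, hX⟩ ⟨g', hg', hY⟩
    exact ⟨g * g', M.mul_mem hg hg', fun u => by
      rw [act_mul, hX, hY, Units.val_mul, Matrix.mulVec_mulVec]⟩
  sigma_mem := by
    rintro X ⟨g, hg, hX⟩
    refine ⟨g⁻¹, M.inv_mem hg, fun w => ?_⟩
    obtain ⟨v, hv⟩ := (coe D).surjective (((g⁻¹ : GL _ F) : Matrix _ _ F) *ᵥ coe D w)
    have hw : act X v = w := (coe D).injective (by
      rw [hX v, hv, Matrix.mulVec_mulVec, ← Units.val_mul, mul_inv_cancel, Units.val_one, Matrix.one_mulVec])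
    rw [← hv, ← hw, ← act_mul, sigma_mul_of_isometry hb (blocks_isometry D hM' hc hg hX), act_one]
  sigma_mul := by
    rintro X ⟨g, hg, hX⟩
    exact sigma_mul_of_isometry hb (blocks_isometry D hM' hc hg hX)
  upper t := elem_blocks D hM hc
    (Matrix.GeneralLinearGroup.mkOfDetNeZero !![1, t; 0, 1] (by simp [Matrix.det_fin_two])) 1
    (by ext i j : 1; fin_cases i <;> fin_cases j <;> simp [blk, Module.End.one_eq_id])
    (fun u v => by simp [phi, act, hb.symm v.2]; try ring)
  lower t := elem_blocks D hM hc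
    (Matrix.GeneralLinearGroup.mkOfDetNeZero !![1, 0; t, 1] (by simp [Matrix.det_fin_two])) 1
    (by ext i j : 1; fin_cases i <;> fin_cases j <;> simp [blk, Module.End.one_eq_id])
    (fun u v => by simp [phi, act, hb.symm v.1]; try ring)
  diag w hw := diag_blocks D hM hb hc w hw
  conj w hw X hX := by
    obtain ⟨d, hd, hD⟩ := diag_blocks D hM hb hc w hw
    obtain ⟨g, hg, hX⟩ := hX
    exact ⟨d * g * d, M.mul_mem (M.mul_mem hd hg) hd, fun u => by
      rw [act_mul, act_mul, hD, hX, hD, Units.val_mul, Units.val_mul, Matrix.mulVec_mulVec, Matrix.mulVec_mulVec]⟩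

theorem centres_iff {M : Subgroup (GL (Fin m ⊕ Fin m) F)} {b : LinearMap.BilinForm F W₀} (hb : Form b)
    (hc : ∀ u v, Cfsg.sympForm m F (coe D u) (coe D v) = phi b u v) {v : W₀ × W₀}
    (hv : v ∈ TensorSympMax.centres b (blocks D M)) :
    coe D v ∈ GeomClasses.Symp.centres (Cfsg.sympForm m F) M := by
  intro c
  obtain ⟨g, hg, hX⟩ := hv c
  convert hg using 1
  refine Units.ext (Matrix.ext_iff_mulVec.2 fun x => ?_)
  obtain ⟨u, rfl⟩ := (coe D).surjective x
  rw [GeomClasses.Symp.formTv_mulVec (GeomClasses.Symp.isSymplecticForm_sympForm m), ← hX u, act_tv hb, map_add,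
    map_smul, hc]

/-- The stabiliser of a decomposition as a plane tensor an orthogonal space is maximal. -/
theorem isMaximalIn_of_noPlane (hodd : Odd (Fintype.card F)) (hn : 3 ≤ n)
    (hbig : 5 ≤ n ∨ 5 ≤ Fintype.card F ∨ (4 ≤ n ∧ Fintype.card F = 3)) (e : (Fin m ⊕ Fin m) ≃ Fin 2 × Fin n) (P : GL (Fin m ⊕ Fin m) F)
    (h₁ : Cfsg.Geo.IsSymplecticForm f₁) (h₂ : Cfsg.Geo.IsSymmetricForm f₂)
    (hN : 5 ≤ n ∨ ∀ p s : Fin n → F, f₂ p p = 0 → f₂ p s = 0 → f₂ s s = 0 → ¬ LinearIndependent F ![p, s])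
    (hT : Cfsg.Geo.IsTensorFormStructure id (Cfsg.sympForm m F) f₁ f₂ e P) :
    Cfsg.Geo.IsMaximalIn (Cfsg.spGL m F) (Cfsg.Geo.tensorProductSubgroup 2 n e P ⊓ Cfsg.spGL m F) := by
  let D : Decomp m n F := ⟨e, P⟩
  have h2 : (2 : F) ≠ 0 := Ring.two_ne_zero fun h =>
    Nat.not_odd_iff.2 (FiniteField.even_card_iff_char_two.1 h) hodd
  obtain ⟨k, hb, hc⟩ := exists_form D h₁ h₂ hT h2
  set b := form h₂ k with hbdef
  refine ⟨lt_of_le_of_ne inf_le_right fun heq => ?_, fun M hM hM' => ?_⟩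
  · obtain ⟨w, hw⟩ : ∃ w, b w w ≠ 0 := by
      haveI : Invertible (2 : F) := invertibleOfNonzero h2
      haveI : Nontrivial (Fin n → F) := Module.finrank_pos_iff.1 (by rw [Module.finrank_fin_fun]; omega : 0 < _)
      obtain ⟨x, hx⟩ := LinearMap.BilinForm.exists_bilinForm_self_ne_zero (B := b)
        (fun h0 => by
          obtain ⟨y, hy⟩ := exists_ne (0 : Fin n → F)
          exact hy (hb.nondeg.1 y fun z => by rw [h0]; rfl)) ⟨hb.symm⟩
      exact ⟨x, hx⟩
    have hmem : GeomClasses.formTv (Cfsg.sympForm m F) (coe D (w, 0)) 1 ∈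
        Cfsg.Geo.tensorProductSubgroup 2 n e P ⊓ Cfsg.spGL m F := heq.symm ▸ GeomClasses.Symp.formTv_mem_spGL m _ _
    obtain ⟨X, hX, Y, B, hYB⟩ := exists_rep D hmem.1
    have e1 : X = tv b (w, 0) 1 := act_ext fun u => (coe D).injective (by
      rw [hX u, GeomClasses.Symp.formTv_mulVec (GeomClasses.Symp.isSymplecticForm_sympForm m), act_tv hb, map_add,
        map_smul, hc])
    have a00 := hYB 0 0
    have a01 := hYB 0 1
    rw [e1] at a00 a01
    simp [tv, op] at a00 a01
    have hY0 : Y 0 0 ≠ 0 := fun h0 => by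
      rw [h0, zero_smul] at a00
      have := LinearMap.congr_fun a00 w
      simp at this
      exact hw (by simp [this])
    have hB : B = (Y 0 0)⁻¹ • 1 := by rw [a00, smul_smul, inv_mul_cancel₀ hY0, one_smul]
    rw [hB] at a01
    obtain ⟨x, hx0, hxw, -⟩ := exists_perp_two (b := b) w w (by rw [Module.finrank_fin_fun]; omega)
    have e2 := LinearMap.congr_fun a01 x
    simp [hxw, hx0] at e2
    have e3 := LinearMap.congr_fun a01 w
    have hY1 : Y 0 1 = 0 := (smul_eq_zero.1 e2.symm).resolve_right (smul_ne_zero (inv_ne_zero hY0) hx0)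
    simp only [LinearMap.neg_apply, LinearMap.smulRight_apply, LinearMap.smul_apply, LinearMap.zero_apply, hY1,
      zero_smul, neg_eq_zero, smul_eq_zero] at e3
    exact e3.elim hw fun h0 => hw (by simp [h0])
  · have S := setting D hn hM hM' hb hc
    have hk : k ≠ 0 := fun h0 => by
      obtain ⟨z, hz0⟩ : ∃ z : Fin n → F, z ≠ 0 := ⟨Pi.single ⟨0, by omega⟩ 1, by simp⟩
      exact hz0 (hb.nondeg.1 z fun y => by simp [hbdef, form, h0])
    rcases S.dichotomy (hN.imp (fun h => by rw [Module.finrank_fin_fun]; exact h)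
      fun h p s hp hps hs => h p s (by simpa [hbdef, form, hk] using hp) (by simpa [hbdef, form, hk] using hps)
        (by simpa [hbdef, form, hk] using hs))
      (by rwa [Module.finrank_fin_fun]) with h | h
    · refine Or.inl (le_antisymm (fun g hg => ⟨?_, hM' hg⟩) hM)
      obtain ⟨X, hX⟩ : ∃ X, Rep D g X := by
        let L := ((coe D).symm.toLinearMap ∘ₗ Matrix.toLin' (g : Matrix _ _ F)) ∘ₗ (coe D).toLinearMap
        refine ⟨!![LinearMap.fst F _ _ ∘ₗ L ∘ₗ LinearMap.inl F _ _, LinearMap.fst F _ _ ∘ₗ L ∘ₗ LinearMap.inr F _ _;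
          LinearMap.snd F _ _ ∘ₗ L ∘ₗ LinearMap.inl F _ _, LinearMap.snd F _ _ ∘ₗ L ∘ₗ LinearMap.inr F _ _],
          fun u => ?_⟩
        rw [← (coe D).eq_symm_apply]
        have hL : L u = (coe D).symm ((g : Matrix _ _ F) *ᵥ coe D u) := rfl
        rw [← hL]
        conv_rhs => rw [show u = (u.1, 0) + (0, u.2) by simp, map_add]
        ext <;> simp [act]
      obtain ⟨Y, B, hYB⟩ := h X ⟨g, hg, hX⟩
      have e := congrFun (congrFun (S.sigma_mul ⟨g, hg, hX⟩) 0) 0
      simp [sigma, Matrix.mul_apply, Fin.sum_univ_two, hYB, adj_smul, adj_neg, smul_smul] at e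
      have hd : Y.det • (adj hb B * B) = 1 := by
        rw [← e, Matrix.det_fin_two]
        refine LinearMap.ext fun z => ?_
        simp only [Module.End.mul_apply, LinearMap.add_apply, LinearMap.smul_apply, LinearMap.neg_apply]
        module
      have hY : Y.det ≠ 0 := fun h0 => S.one_ne (by rw [← hd, h0, zero_smul])
      rw [← smul_mul_assoc] at hd
      have hBu : (LinearMap.toMatrix' (Y.det • adj hb B)) * LinearMap.toMatrix' B = 1 := by
        rw [← LinearMap.toMatrix'_comp, ← Module.End.mul_eq_comp, hd, LinearMap.toMatrix'_one]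
      let c : GL (Fin n) F := ⟨_, _, mul_eq_one_comm.1 hBu, hBu⟩
      have hX' : X = blk Y (Matrix.toLin' (c : Matrix _ _ F)) := by
        ext i j : 1
        simp [blk, hYB, c]
      have hr := rep_elem D (Matrix.GeneralLinearGroup.mkOfDetNeZero Y hY) c
      rw [show ((Matrix.GeneralLinearGroup.mkOfDetNeZero Y hY : GL (Fin 2) F) : Matrix _ _ F) = Y from rfl,
        ← hX'] at hr
      rw [eq_of_rep D hX hr]
      exact elem_mem D _ _
    · refine Or.inr (GeomClasses.Symp.eq_spGL_of_centres hM' fun v => ?_)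
      obtain ⟨u, rfl⟩ := (coe D).surjective v
      exact centres_iff D hb hc (h u)

/-- Dimensions three and at least five. -/
theorem isMaximalIn (hodd : Odd (Fintype.card F)) (hn : 5 ≤ n ∨ (n = 3 ∧ 5 ≤ Fintype.card F))
    (e : (Fin m ⊕ Fin m) ≃ Fin 2 × Fin n) (P : GL (Fin m ⊕ Fin m) F)
    (h₁ : Cfsg.Geo.IsSymplecticForm f₁) (h₂ : Cfsg.Geo.IsSymmetricForm f₂)
    (hT : Cfsg.Geo.IsTensorFormStructure id (Cfsg.sympForm m F) f₁ f₂ e P) :
    Cfsg.Geo.IsMaximalIn (Cfsg.spGL m F) (Cfsg.Geo.tensorProductSubgroup 2 n e P ⊓ Cfsg.spGL m F) := by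
  rcases hn with hn | ⟨rfl, hq⟩
  · exact isMaximalIn_of_noPlane hodd (by omega) (Or.inl hn) e P h₁ h₂ (Or.inl hn) hT
  refine isMaximalIn_of_noPlane hodd le_rfl (Or.inr (Or.inl hq)) e P h₁ h₂ (Or.inr fun p s hp hps hs hind => ?_) hT
  set b := form h₂ (1 : F) with hb
  have hnd : b.Nondegenerate := by
    constructor <;> intro x hx <;> by_contra hne
    · obtain ⟨y, hy⟩ := (h₂.nondegenerate x hne).2
      exact hy (by simpa [hb, form] using hx y)
    · obtain ⟨y, hy⟩ := (h₂.nondegenerate x hne).1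
      exact hy (by simpa [hb, form] using hx y)
  have hbs : ∀ x y, b x y = b y x := fun x y => by simp [hb, form, h₂.symm x y]
  set U := Submodule.span F (Set.range ![p, s]) with hU
  have hle : U ≤ LinearMap.BilinForm.orthogonal b U := by
    rw [hU, Submodule.span_le]
    rintro x ⟨i, rfl⟩ y hy
    refine Submodule.span_induction ?_ (by simp) (fun y z _ _ hy hz => ?_) (fun c y _ hy => ?_) hy
    · rintro _ ⟨j, rfl⟩
      show b _ _ = 0
      fin_cases i <;> fin_cases j <;> simp [hb, form, hp, hps, hs, h₂.symm s p]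
    · show b _ _ = 0
      rw [map_add, LinearMap.add_apply, show b y _ = 0 from hy, show b z _ = 0 from hz, add_zero]
    · show b _ _ = 0
      rw [map_smul, LinearMap.smul_apply, show b y _ = 0 from hy, smul_zero]
  have h4 := Submodule.finrank_mono hle
  rw [LinearMap.BilinForm.finrank_orthogonal hnd, hU, finrank_span_eq_card hind, Module.finrank_fin_fun,
    Fintype.card_fin] at h4
  omega

end CfsgLib.TensorSympMax.Transfer
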