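import Cfsg.Agent.Lib.TensorSympMax.Contraction
import Cfsg.Agent.Lib.TensorSympMax.Algebra

/-!
A non-degenerate image plane of the skew contraction.
-/

set_option autoImplicit false
set_option linter.unusedSectionVars false

namespace CfsgLib.TensorSympMax

open LinearMap Module

variable {F : Type*} [Field F] {W : Type*} [AddCommGroup W] [Module F W] [FiniteDimensional F W]
  {b : LinearMap.BilinForm F W} {hb : Form b} {Ms : Set (Blk F W)}

theorem corner_add (A B : Module.End F W) : corner (A + B) = corner A + corner B := by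
  ext i j : 1
  fin_cases i <;> fin_cases j <;> simp [corner]

/-- An involution with a non-degenerate contraction. -/
structure PlaneData (S : Setting hb Ms) (g : Blk F W) (k : F) (p s : W) : Prop where
  mem : g ∈ Ms
  sq : g * g = 1
  k_ne : k ≠ 0
  eq_skw : g 1 0 = skw b k p s
  gram_ne : gram b p s ≠ 0

/-- The eigenvalue of the square of the contraction. -/
def lam (b : LinearMap.BilinForm F W) (k : F) (p s : W) : F := -(k * k * gram b p s)

/-- The projection onto the image plane. -/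
noncomputable def proj (b : LinearMap.BilinForm F W) (k : F) (p s : W) : Module.End F W :=
  (lam b k p s)⁻¹ • (skw b k p s * skw b k p s)

namespace PlaneData

variable {S : Setting hb Ms} {g : Blk F W} {k : F} {p s : W} (D : PlaneData S g k p s)
include D

local notation "σ₀" => lam b k p s
local notation "P₀" => proj b k p s

theorem lam_ne : σ₀ ≠ 0 := by simp [lam, D.k_ne, D.gram_ne]

theorem A_sq : g 1 0 * g 1 0 = σ₀ • P₀ := by
  rw [proj, smul_smul, mul_inv_cancel₀ D.lam_ne, one_smul, D.eq_skw]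

theorem P_A : P₀ * g 1 0 = g 1 0 := by
  rw [proj, D.eq_skw, smul_mul_assoc, skw_cube hb, smul_smul, lam, inv_mul_cancel₀ (by simpa [lam] using D.lam_ne),
    one_smul]

theorem A_P : g 1 0 * P₀ = g 1 0 := by
  rw [proj, D.eq_skw, mul_smul_comm, ← mul_assoc, skw_cube hb, smul_smul, lam,
    inv_mul_cancel₀ (by simpa [lam] using D.lam_ne), one_smul]

theorem P_P : P₀ * P₀ = P₀ := by
  conv_lhs => arg 1; rw [proj, ← D.eq_skw]
  rw [smul_mul_assoc, mul_assoc, D.A_P, D.A_sq, smul_smul, inv_mul_cancel₀ D.lam_ne, one_smul]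

theorem adj_A : adj hb (g 1 0) = -g 1 0 := (S.invol_facts D.mem D.sq).1

theorem adj_P : adj hb P₀ = P₀ := by
  rw [proj, ← D.eq_skw, adj_smul, adj_mul, D.adj_A, neg_mul_neg]

theorem A_perp {z : W} (hp : b p z = 0) (hs : b s z = 0) : g 1 0 z = 0 := by
  rw [D.eq_skw, skw_apply, hp, hs]; simp

theorem P_perp {z : W} (hp : b p z = 0) (hs : b s z = 0) : P₀ z = 0 := by
  rw [proj, ← D.eq_skw, LinearMap.smul_apply, Module.End.mul_apply, D.A_perp hp hs, map_zero, smul_zero]

theorem P_comb (a c : F) : P₀ (a • p + c • s) = a • p + c • s := by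
  have h : skw b k p s (skw b k p s (a • p + c • s)) = σ₀ • (a • p + c • s) := by
    simp [skw_apply, lam, gram, hb.symm s p]
    match_scalars <;> ring
  rw [proj, LinearMap.smul_apply, Module.End.mul_apply, h, smul_smul, inv_mul_cancel₀ D.lam_ne, one_smul]

theorem P_mem (x : W) : ∃ a c : F, P₀ x = a • p + c • s := by
  refine ⟨(σ₀)⁻¹ * k * -b s (g 1 0 x), (σ₀)⁻¹ * k * b p (g 1 0 x), ?_⟩
  rw [D.eq_skw]
  simp only [proj, LinearMap.smul_apply, Module.End.mul_apply, skw_apply]
  module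

theorem P_ne_scalar (h5 : 3 ≤ finrank F W) (c : F) : P₀ ≠ c • 1 := by
  intro hc
  obtain ⟨x, hx0, hxp, hxs⟩ := exists_perp_two (b := b) p s h5
  have h := LinearMap.congr_fun hc x
  rw [D.P_perp hxp hxs, LinearMap.smul_apply, Module.End.one_apply] at h
  rcases smul_eq_zero.1 h.symm with h1 | h1
  · rw [h1, zero_smul] at hc
    have := D.A_P
    rw [hc, mul_zero, D.eq_skw] at this
    obtain ⟨y, hy⟩ : ∃ y, b p y ≠ 0 := by
      by_contra hcon
      push Not at hcon
      exact D.gram_ne (by simp [gram, hcon p, hcon s])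
    have hA := LinearMap.congr_fun this.symm y
    rw [skw_apply, LinearMap.zero_apply, smul_eq_zero] at hA
    have h3 := hA.resolve_left D.k_ne
    have e1 := congrArg (fun z => b p z) h3
    have e2 := congrArg (fun z => b s z) h3
    simp [hb.symm s p] at e1 e2
    have : b p y * gram b p s = 0 := by rw [gram]; linear_combination b p p * e2 - b p s * e1
    exact (mul_eq_zero.1 this).elim hy D.gram_ne
  · exact hx0 h1

/-- The six-parameter elements. -/
noncomputable def el (_D : PlaneData S g k p s) (a b' c d x y : F) : Blk F W :=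
  phi6 ((σ₀)⁻¹ • (corner P₀ * (g * corner P₀ * g))) (corner P₀) ((σ₀)⁻¹ • (g * corner P₀ * g))
    ((σ₀)⁻¹ • (g * corner P₀ * g * corner P₀)) (corner (1 - P₀)) (g * corner (1 - P₀) * g) a b' c d x y

theorem units : MatUnits ((σ₀)⁻¹ • (corner P₀ * (g * corner P₀ * g))) (corner P₀)
    ((σ₀)⁻¹ • (g * corner P₀ * g)) ((σ₀)⁻¹ • (g * corner P₀ * g * corner P₀)) (corner (1 - P₀))
    (g * corner (1 - P₀) * g) := by
  set X := corner P₀ with hX
  set Z := corner (1 - P₀) with hZ
  set Y := g * X * g with hY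
  set T := g * Z * g with hT
  have hne := D.lam_ne
  have gg : ∀ a : Blk F W, a * g * g = a := fun a => by rw [mul_assoc, D.sq, mul_one]
  have xgz : X * g * Z = 0 := by
    rw [hX, hZ, corner_mul, D.P_A, mul_sub, mul_one, D.A_P, sub_self, corner_zero]
  have zgx : Z * g * X = 0 := by
    rw [hX, hZ, corner_mul, mul_assoc, D.A_P, sub_mul, one_mul, D.P_A, sub_self, corner_zero]
  have zgz : Z * g * Z = 0 := by
    rw [hZ, corner_mul, sub_mul, one_mul, D.P_A, sub_self, zero_mul, corner_zero]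
  have xgx : X * g * X = corner (g 1 0) := by rw [hX, corner_mul, D.P_A, D.A_P]
  have XX : X * X = 0 := corner_sq _ _
  have XZ : X * Z = 0 := corner_sq _ _
  have ZX : Z * X = 0 := corner_sq _ _
  have ZZ : Z * Z = 0 := corner_sq _ _
  have XT : X * T = 0 := by rw [hT, ← mul_assoc, ← mul_assoc, xgz, zero_mul]
  have ZY : Z * Y = 0 := by rw [hY, ← mul_assoc, ← mul_assoc, zgx, zero_mul]
  have ZT : Z * T = 0 := by rw [hT, ← mul_assoc, ← mul_assoc, zgz, zero_mul]
  have YZ : Y * Z = 0 := by rw [hY, mul_assoc, mul_assoc, ← mul_assoc X, xgz, mul_zero]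
  have TX : T * X = 0 := by rw [hT, mul_assoc, mul_assoc, ← mul_assoc Z, zgx, mul_zero]
  have TZ : T * Z = 0 := by rw [hT, mul_assoc, mul_assoc, ← mul_assoc Z, zgz, mul_zero]
  have gxg : ∀ U V : Blk F W, U * V = 0 → g * U * g * (g * V * g) = 0 := fun U V h => by
    rw [← mul_assoc, ← mul_assoc, gg, mul_assoc g U V, h, mul_zero, zero_mul]
  have YY : Y * Y = 0 := gxg X X XX
  have YT : Y * T = 0 := gxg X Z XZ
  have TY : T * Y = 0 := gxg Z X ZX
  have TT : T * T = 0 := gxg Z Z ZZ
  have XYX : X * Y * X = σ₀ • X := by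
    rw [hY, ← mul_assoc, ← mul_assoc, xgx, hX, corner_mul, D.A_sq, smul_mul_assoc, D.P_P, corner_smul]
  have YXY : Y * X * Y = σ₀ • Y := by
    have : Y * X * Y = g * (X * Y * X) * g := by simp only [hY, mul_assoc]
    rw [this, XYX, mul_smul_comm, smul_mul_assoc]
  have z : ∀ {u v : Blk F W}, u * v = 0 → ∀ a, a * u * v = 0 := fun h a => by rw [mul_assoc, h, mul_zero]
  have aXYX : ∀ a, a * X * Y * X = σ₀ • (a * X) := fun a => by
    rw [mul_assoc a X Y, mul_assoc a, XYX, mul_smul_comm]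
  have aYXY : ∀ a, a * Y * X * Y = σ₀ • (a * Y) := fun a => by
    rw [mul_assoc a Y X, mul_assoc a, YXY, mul_smul_comm]
  constructor <;>
    simp only [smul_mul_assoc, mul_smul_comm, smul_smul, ← mul_assoc, XX, XZ, ZX, ZZ, XT, ZY, ZT, YZ, TX, TZ, YY,
      YT, TY, TT, z XX, z XZ, z ZX, z ZZ, z XT, z ZY, z ZT, z YZ, z TX, z TZ, z YY, z YT, z TY, z TT, XYX, YXY,
      aXYX, aYXY, zero_mul, smul_zero, inv_mul_cancel₀ hne, one_smul, inv_mul_cancel_right₀ hne, mul_inv_cancel₀ hne]

theorem el_mul (a b' c d x y a' b'' c' d' x' y' : F) : D.el a b' c d x y * D.el a' b'' c' d' x' y' =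
    D.el (a * a' + b' * c') (a * b'' + b' * d') (c * a' + d * c') (c * b'' + d * d') (x + x') (y + y') :=
  phi6_mul D.units _ _ _ _ _ _ _ _ _ _ _ _

theorem upper_el (c : F) : (!![1, c • 1; 0, 1] : Blk F W) = D.el 1 c 0 1 c 0 := by
  simp only [el, phi6, sub_self, zero_smul, add_zero]
  rw [upper_eq, add_assoc, ← corner_smul, ← corner_smul, ← corner_add, ← smul_add, add_sub_cancel]

theorem T_mem (c : F) : D.el 1 c 0 1 c 0 ∈ Ms := D.upper_el c ▸ S.upper c

theorem h_mem (d : F) : D.el 1 0 (d * σ₀) 1 0 d ∈ Ms := by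
  have h := S.mul (S.mul D.mem (S.upper d)) D.mem
  have e : g * (!![1, d • 1; 0, 1] : Blk F W) * g = D.el 1 0 (d * σ₀) 1 0 d := by
    simp only [el, phi6, sub_self, smul_smul, zero_mul, zero_smul, add_zero]
    rw [upper_eq, mul_assoc d, mul_inv_cancel₀ D.lam_ne, mul_one, add_assoc, ← smul_add, ← add_mul,
      ← mul_add, ← corner_add, add_sub_cancel, mul_add, mul_one, add_mul, D.sq, corner_smul, mul_smul_comm,
      smul_mul_assoc]
  rwa [← e]

theorem h_mem' (c : F) : D.el 1 0 c 1 0 (c / σ₀) ∈ Ms := by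
  have := D.h_mem (c / σ₀)
  rwa [div_mul_cancel₀ _ D.lam_ne] at this

/-- A scalar whose square is not one gives the projection in the root group. -/
theorem root_of_sq {t : F} (ht : t ≠ 0) (ht1 : t * t ≠ 1) : ∃ A, S.Root A ∧ ∀ c : F, A ≠ c • 1 := by
  have h1 := S.mul (S.mul (S.mul (D.h_mem' (-((t - 1) / t))) (D.T_mem 1)) (D.h_mem' (t - 1))) (D.T_mem (-t⁻¹))
  have h2 := S.mul (S.mul (S.mul (D.T_mem t⁻¹) (D.h_mem' (-(t - 1)))) (D.T_mem (-1))) (D.h_mem' ((t - 1) / t))
  have h3 := S.mul (S.mul (S.mul h1 (D.T_mem 1)) h2) (D.T_mem (-1))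
  simp only [D.el_mul] at h3
  have e : ∀ a b' c d x y, a = 1 → b' = t * t - 1 → c = 0 → d = 1 → x = 0 → y = 0 → D.el a b' c d x y ∈ Ms →
      S.Root ((t * t - 1) • P₀) := by
    rintro a b' c d x y rfl rfl rfl rfl rfl rfl hm
    unfold CSetting.Root
    rw [upper_eq, corner_smul]
    simpa only [el, phi6, sub_self, zero_smul, add_zero] using hm
  have hne := D.lam_ne
  refine ⟨_, e _ _ _ _ _ _ ?_ ?_ ?_ ?_ ?_ ?_ h3, fun c hc => D.P_ne_scalar S.dim (c / (t * t - 1)) ?_⟩
  iterate 6 (focus (field_simp; ring))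
  rw [div_eq_inv_mul, ← smul_smul, ← hc, smul_smul, inv_mul_cancel₀ (sub_ne_zero.2 ht1), one_smul]

end PlaneData

end CfsgLib.TensorSympMax
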