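import Cfsg.Agent.Lib.TensorSympMax.PlaneThree

/-!
An orthogonal factor of dimension four without totally singular planes over the field with three elements.
-/

set_option autoImplicit false
set_option linter.unusedSectionVars false
set_option linter.unusedSimpArgs false

namespace CfsgLib.TensorSympMax

open LinearMap Module

variable {F : Type*} [Field F] {W : Type*} [AddCommGroup W] [Module F W] [FiniteDimensional F W]
  {b : LinearMap.BilinForm F W} {hb : Form b} {Ms : Set (Blk F W)}

/-- Over three elements, a non-zero value is a given one or its negative. -/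
theorem eq_or_neg (hq : ∀ x : F, x ≠ 0 → x = 1 ∨ x = -1) {a c : F} (ha : a ≠ 0) (hc : c ≠ 0) :
    c = a ∨ c = -a := by
  rcases hq a ha with rfl | rfl <;> rcases hq c hc with rfl | rfl <;> simp

/-- An anisotropic perpendicular space of two vectors has orthogonal pairs of every non-zero norm. -/
theorem exists_pair (hb : Form b) (hq : ∀ x : F, x ≠ 0 → x = 1 ∨ x = -1) (h3 : (3 : F) = 0)
    (hd : 4 ≤ finrank F W) {u v : W} (hani : ∀ x : W, x ≠ 0 → b u x = 0 → b v x = 0 → b x x ≠ 0) {a : F}
    (ha : a ≠ 0) : ∃ c d : W, b u c = 0 ∧ b v c = 0 ∧ b u d = 0 ∧ b v d = 0 ∧ b c d = 0 ∧ b c c = a ∧ b d d = a := by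
  obtain ⟨c, hc0, huc, hvc⟩ := exists_perp_two (b := b) u v (by omega)
  have hlt : finrank F (F × F × F) < finrank F W := by
    rw [Module.finrank_prod, Module.finrank_prod, Module.finrank_self]; omega
  obtain ⟨d, hd', hd0⟩ := (Submodule.ne_bot_iff _).1
    (LinearMap.ker_ne_bot_of_finrank_lt (f := (b u).prod ((b v).prod (b c))) hlt)
  rw [LinearMap.mem_ker] at hd'
  have hud : b u d = 0 := congrArg Prod.fst hd'
  have hvd : b v d = 0 := congrArg (fun p => p.2.1) hd'
  have hcd : b c d = 0 := congrArg (fun p => p.2.2) hd'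
  have hdc : b d c = 0 := by rw [hb.symm, hcd]
  have hcc := hani c hc0 huc hvc
  rcases eq_or_neg hq hcc (hani d hd0 hud hvd) with he | he
  · rcases eq_or_neg hq hcc ha with rfl | rfl
    · exact ⟨c, d, huc, hvc, hud, hvd, hcd, rfl, he⟩
    · refine ⟨c + d, c - d, by simp [huc, hud], by simp [hvc, hvd], by simp [huc, hud], by simp [hvc, hvd], ?_, ?_, ?_⟩
        <;> simp [hcd, hdc, he] <;> linear_combination (b c c) * h3
  · refine absurd ?_ (hani (c + d) (fun h0 => hcc ?_) (by simp [huc, hud]) (by simp [hvc, hvd]))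
    · simp [hcd, hdc, he]
    · have := congrArg (b c) h0
      simpa [hcd] using this

namespace CSetting

variable (S : CSetting hb Ms)
include S

theorem rotate_one {w z e : W} (h : S.Root (sop b w z)) (hz : b z z ≠ 0) (hwz : b w z = 0) (hwe : b w e = 0)
    (hze : b z e = 0) (ht : b z z + b e e ≠ 0) : S.Root (sop b w e) := by
  have hzw : b z w = 0 := by rw [hb.symm, hwz]
  have hew : b e w = 0 := by rw [hb.symm, hwe]
  have hez : b e z = 0 := by rw [hb.symm, hze]
  set y := z + e with hy
  have hyy : b y y ≠ 0 := by simpa [hy, hze, hez] using ht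
  have := S.sop_move h hyy
  have e1 : refl b y w = w := by simp [refl_apply, hy, hzw, hew]
  rw [e1, refl_apply, sub_eq_add_neg, sop_add_right, ← neg_smul, sop_smul_right] at this
  have hb0 : b y z ≠ 0 := by simpa [hy, hez] using hz
  have hc : -(2 / b y y * b y z) ≠ 0 := by simp [hb.two, hyy, hb0]
  have h3 := S.root_smul (S.root_sub this h) (-(2 / b y y * b y z))⁻¹
  rw [add_sub_cancel_left, smul_smul, inv_mul_cancel₀ hc, one_smul, hy, sop_add_right] at h3
  have h4 := S.root_sub h3 h
  rwa [add_sub_cancel_left] at h4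

/-- A non-scalar root element gives a pure isotropic transvection group. -/
theorem exists_centre_three (hq : ∀ x : F, x ≠ 0 → x = 1 ∨ x = -1) (h3 : (3 : F) = 0) (hd : 4 ≤ finrank F W)
    (hno : ∀ p s : W, b p p = 0 → b p s = 0 → b s s = 0 → ¬ LinearIndependent F ![p, s])
    {A : Module.End F W} (hA : S.Root A) (hns : ∀ c : F, A ≠ c • 1) :
    ∃ i : W, i ≠ 0 ∧ b i i = 0 ∧ (i, (0 : W)) ∈ centres b Ms := by
  obtain ⟨w, hw, hnw⟩ : ∃ w, b w w ≠ 0 ∧ ∀ l : F, A w ≠ l • w := by
    by_contra hc
    push Not at hc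
    obtain ⟨l, hl⟩ := scalar_of_eigen hb S.dim A hc
    exact hns l hl
  set z := A w - (b w (A w) / b w w) • w with hzdef
  have hz0 : z ≠ 0 := sub_ne_zero.2 (hnw _)
  have hwz : b w z = 0 := by simp [hzdef, hw]
  have hzw : b z w = 0 := by rw [hb.symm, hwz]
  have h := S.sop_of_root hA hw
  by_cases hz : b z z = 0
  · exact ⟨z, hz0, hz, S.centre_of_sop h hw hwz hz⟩
  by_cases hi : ∃ x : W, x ≠ 0 ∧ b w x = 0 ∧ b z x = 0 ∧ b x x = 0
  · obtain ⟨i, hi0, hwi, hzi, hii⟩ := hi
    exact ⟨i, hi0, hii, S.centre_of_sop (S.shift h hz hwz hwi hzi hii) hw hwi hii⟩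
  push Not at hi
  obtain ⟨e, f, hwe, hze, hwf, hzf, hef, hee, hff⟩ := exists_pair hb hq h3 hd hi hz
  have hfe : b f e = 0 := by rw [hb.symm, hef]
  have hew : b e w = 0 := by rw [hb.symm, hwe]
  have hfw : b f w = 0 := by rw [hb.symm, hwf]
  have hez : b e z = 0 := by rw [hb.symm, hze]
  have hfz : b f z = 0 := by rw [hb.symm, hzf]
  have hwz' : b w w = -b z z := by
    rcases eq_or_neg hq hz hw with he | he
    · -- four vectors of one norm span a totally isotropic plane
      refine absurd (LinearIndependent.pair_iff.2 fun a c hac => ?_)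
        (hno (w + z + e) (w - z + f) ?_ ?_ ?_)
      · have h1 := congrArg (b e) hac
        have h2 := congrArg (b f) hac
        simp [hew, hez, hef, hfw, hfz, hfe, hee, hff, hz] at h1 h2
        exact ⟨h1, h2⟩
      · simp [hwz, hzw, hwe, hew, hze, hez, hee, he]; linear_combination (b z z) * h3
      · simp [hwz, hzw, hwf, hzf, hew, hez, hef, he]
      · simp [hwz, hzw, hwf, hfw, hzf, hfz, hff, he]; linear_combination (b z z) * h3
    · exact he
  have hne : b z z + b z z ≠ 0 := by rw [← two_mul]; exact mul_ne_zero hb.two hz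
  have h1 : S.Root (sop b e w) := by
    rw [sop_comm]
    exact S.rotate_one h hz hwz hwe hze (by rw [hee]; exact hne)
  have hy : ∀ y : W, b e y = 0 → b w y = 0 → b y y = b w w → S.Root (sop b e y) := fun y hey hwy hyy =>
    S.rotate_one h1 hw hew hey hwy (by rw [hyy, ← two_mul]; exact mul_ne_zero hb.two hw)
  have h2 := S.root_smul (S.root_add
    (hy (z + f) (by simp [hez, hef]) (by simp [hwz, hwf])
      (by simp [hzf, hfz, hff, hwz']; linear_combination (b z z) * h3))
    (hy (z - f) (by simp [hez, hef]) (by simp [hwz, hwf])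
      (by simp [hzf, hfz, hff, hwz']; linear_combination (b z z) * h3))) (2 : F)⁻¹
  rw [← sop_add_right, show z + f + (z - f) = (2 : F) • z by module, sop_smul_right, smul_smul,
    inv_mul_cancel₀ hb.two, one_smul] at h2
  have h4 : S.Root (sop b e (w + z)) := by rw [sop_add_right]; exact S.root_add h1 h2
  refine ⟨w + z, fun h0 => hw ?_, by simp [hwz, hzw, hwz'], S.centre_of_sop h4 (by rwa [hee]) ?_ ?_⟩
  · have := congrArg (b w) h0
    simpa [hwz] using this
  · simp [hew, hez]
  · simp [hwz, hzw, hwz']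

end CSetting

namespace PlaneData

variable {S : Setting hb Ms} {g : Blk F W} {k : F} {p s : W} (D : PlaneData S g k p s)
include D

local notation "P₀" => proj b k p s

/-- A non-degenerate plane, in dimension four. -/
theorem root_of_three_four [Fintype F] (hq : ∀ x : F, x ≠ 0 → x = 1 ∨ x = -1) (h3 : (3 : F) = 0)
    (hd : 4 ≤ finrank F W)
    (hno : ∀ p' s' : W, b p' p' = 0 → b p' s' = 0 → b s' s' = 0 → ¬ LinearIndependent F ![p', s']) :
    ∃ A, S.Root A ∧ ∀ c : F, A ≠ c • 1 := by
  have hN : S.NoPlane := Or.inr hno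
  by_cases hiso : ∃ c : W, c ≠ 0 ∧ b c c = 0 ∧ b p c = 0 ∧ b s c = 0
  · exact D.root_of_three hN h3 hiso
  have hani : ∀ x : W, x ≠ 0 → b p x = 0 → b s x = 0 → b x x ≠ 0 := fun x hx hp hs h0 => hiso ⟨x, hx, h0, hp, hs⟩
  rcases D.corner_or_root h3 with h | hS0
  · exact h
  obtain ⟨hadjA, hadj0, -⟩ := S.invol_facts D.mem D.sq
  set η := (lam b k p s)⁻¹ • (g 0 0 * g 1 0) with hη
  have hPη : P₀ * η = η := by
    rw [hη, mul_smul_comm, ← neg_neg (g 0 0 * g 1 0), ← hS0, mul_neg, ← mul_assoc, D.P_A]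
  have hηP : η * P₀ = η := by rw [hη, smul_mul_assoc, mul_assoc, D.A_P]
  have hηadj : adj hb η = η := by
    rw [hη, adj_smul, adj_mul, hadjA, hadj0, neg_mul, hS0, neg_neg]
  obtain ⟨e00, e10, -⟩ := D.n_entries
  have hn := D.el_mem_n h3
  set n := D.el 0 (-1) 1 0 0 0 with hndef
  rw [← hη] at e00
  have hperp : ∀ x y, P₀ x = x → b p y = 0 → b s y = 0 → b x y = 0 := fun x y hx hpy hsy => by
    rw [← hx]
    nth_rewrite 1 [← D.adj_P]
    rw [adj_left, D.P_perp hpy hsy, map_zero]
  obtain ⟨u, hu, huu⟩ := D.exists_nonsingular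
  obtain ⟨c, d, hpc, hsc, hpd, hsd, hcd, hcc, hdd⟩ := exists_pair hb hq h3 hd hani huu
  have hdc : b d c = 0 := by rw [hb.symm, hcd]
  have huc := hperp u c hu hpc hsc
  have hud := hperp u d hu hpd hsd
  have hcu : b c u = 0 := by rw [hb.symm, huc]
  have hdu : b d u = 0 := by rw [hb.symm, hud]
  -- no fourth vector of the same norm
  have four : ∀ y : W, P₀ y = y → b u y = 0 → b y y ≠ b u u := by
    intro y hy huy hyy
    have hyu : b y u = 0 := by rw [hb.symm, huy]
    have hyc := hperp y c hy hpc hsc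
    have hyd := hperp y d hy hpd hsd
    refine hno (u + y + c) (u - y + d) ?_ ?_ ?_ (LinearIndependent.pair_iff.2 fun a e hae => ?_)
    · simp [huy, hyu, huc, hcu, hyc, hb.symm c y, hyy, hcc]; linear_combination (b u u) * h3
    · simp [huy, hyu, huc, hcu, hyc, hb.symm c y, hud, hyd, hcd, hyy]
    · simp [huy, hyu, hud, hdu, hyd, hb.symm d y, hyy, hdd]; linear_combination (b u u) * h3
    · have h1 := congrArg (b c) hae
      have h2 := congrArg (b d) hae
      simp [hcu, hdu, hb.symm c y, hyc, hb.symm d y, hyd, hcd, hdc, hcc, hdd, huu] at h1 h2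
      exact ⟨h1, h2⟩
  set l := b u (η u) / b u u with hl
  set x := η u - l • u with hx
  have hux : b u x = 0 := by simp [hx, hl, huu]
  have hxu : b x u = 0 := by rw [hb.symm, hux]
  have hPx : P₀ x = x := by rw [hx, map_sub, map_smul, hu, ← Module.End.mul_apply, hPη]
  have hxc := hperp x c hPx hpc hsc
  have hcx : b c x = 0 := by rw [hb.symm, hxc]
  have hc : P₀ c = 0 := D.P_perp hpc hsc
  have hηc : η c = 0 := by rw [← hηP, Module.End.mul_apply, hc, map_zero]
  have s0 : adj hb (n 0 0) (u + c) = c + η u := by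
    rw [e00, adj_add, adj_sub, adj_one, D.adj_P, hηadj]
    simp only [LinearMap.add_apply, LinearMap.sub_apply, Module.End.one_apply, map_add, hu, hc, hηc]
    abel
  have s1 : adj hb (n 1 0) (u + c) = u := by
    rw [e10, D.adj_P, map_add, hu, hc, add_zero]
  have hη' : η u = l • u + x := by rw [hx]; abel
  have hw : b (u + c) (u + c) ≠ 0 := by
    simp [huc, hcu, hcc]
    rw [← two_mul]
    exact mul_ne_zero hb.two huu
  have hind : LinearIndependent F ![adj hb (n 0 0) (u + c), adj hb (n 1 0) (u + c)] := by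
    rw [s0, s1, hη']
    refine LinearIndependent.pair_iff.2 fun a e h => ?_
    have h1 := congrArg (b c) h
    have h2 := congrArg (b u) h
    simp [hcc, hcu, hcx, huc, hux, huu] at h1 h2
    subst h1
    simp [huu] at h2
    exact ⟨rfl, h2⟩
  by_cases hgr : gram b (adj hb (n 0 0) (u + c)) (adj hb (n 1 0) (u + c)) = 0
  · exact S.degenerate_case hN hn hw hind hgr
  have D' : PlaneData S (S.invol n (u + c)) (2 / b (u + c) (u + c)) (adj hb (n 0 0) (u + c))
      (adj hb (n 1 0) (u + c)) :=
    ⟨S.invol_mem hn hw, S.invol_sq hn hw, div_ne_zero hb.two hw, S.invol_corner hn _, hgr⟩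
  refine D'.root_of_three hN h3 ?_
  rw [s0, s1, hη'] at hgr
  simp [gram, huc, hcu, hux, hxu, hxc, hcx, hcc] at hgr
  rw [s0, s1, hη']
  by_cases hx0 : x = 0
  · set v := g 1 0 u with hv
    have hadj : ∀ a y, b (g 1 0 a) y = -b a (g 1 0 y) := fun a y => by
      rw [hb.symm, ← adj_left hb (g 1 0) y a, D.adj_A, LinearMap.neg_apply, map_neg, LinearMap.neg_apply, hb.symm]
    have huv : b u v = 0 := by
      have h := hadj u u
      rw [hb.symm (g 1 0 u) u, ← hv] at h
      exact (mul_eq_zero.1 (show (2 : F) * b u v = 0 by linear_combination h)).resolve_left hb.two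
    have hPv : P₀ v = v := by rw [hv, ← Module.End.mul_apply, D.P_A]
    have hvv0 : b v v ≠ 0 := by
      rw [hv, hadj, ← Module.End.mul_apply, D.A_sq, LinearMap.smul_apply, hu, map_smul, smul_eq_mul]
      simp [D.lam_ne, huu]
    have hvv : b v v = -b u u := (eq_or_neg hq huu hvv0).resolve_left (four v hPv huv)
    have hvc := hperp v c hPv hpc hsc
    have hvd := hperp v d hPv hpd hsd
    refine ⟨v + d, fun h0 => hvv0 ?_, ?_, ?_, ?_⟩
    · have := congrArg (b v) h0
      simpa [hvd] using this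
    · simp [hvd, hb.symm d v, hvv, hdd]
    · simp [hx0, huv, hud, hb.symm c v, hvc, hcd]
    · simp [huv, hud]
  · have hxx : b x x = 0 := by
      by_contra hxx
      rcases eq_or_neg hq huu hxx with h | h
      · exact four x hPx hux h
      · exact hgr (by rw [h]; ring)
    exact ⟨x, hx0, hxx, by simp [hux, hcx, hxx], hux⟩

end PlaneData

end CfsgLib.TensorSympMax
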