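import Cfsg.Agent.Lib.TensorSympMax.Plane

/-!
A non-degenerate image plane over the field with three elements.
-/

set_option autoImplicit false
set_option linter.unusedSectionVars false

namespace CfsgLib.TensorSympMax

open LinearMap Module

variable {F : Type*} [Field F] {W : Type*} [AddCommGroup W] [Module F W] [FiniteDimensional F W]
  {b : LinearMap.BilinForm F W} {hb : Form b} {Ms : Set (Blk F W)}

namespace Setting

variable (S : Setting hb Ms)
include S

/-- A degenerate image plane. -/
theorem degenerate_case (hN : S.NoPlane) {X : Blk F W} (hX : X ∈ Ms) {w : W} (hw : b w w ≠ 0)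
    (hind : LinearIndependent F ![adj hb (X 0 0) w, adj hb (X 1 0) w])
    (hg : gram b (adj hb (X 0 0) w) (adj hb (X 1 0) w) = 0) : ∃ A, S.Root A ∧ ∀ c : F, A ≠ c • 1 := by
  set p := adj hb (X 0 0) w with hp
  set s := adj hb (X 1 0) w with hs
  rw [gram] at hg
  by_cases hss : b s s = 0
  · have hps : b p s = 0 := mul_self_eq_zero.1 (by rw [hss, mul_zero, zero_sub, neg_eq_zero] at hg; exact hg)
    by_cases hpp : b p p = 0
    · exact S.isotropic_case hN hX hw hpp hps hss hind
    · exact S.rank_one hX hw hpp hps hss (hind.ne_zero 1)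
  · set t := -(b p s / b s s) with ht
    set J : Blk F W := !![1, (1 : F) • 1; 0, 1] * !![1, 0; (-1 : F) • 1, 1] * !![1, (1 : F) • 1; 0, 1] with hJ
    have hJm : J ∈ Ms := S.mul (S.mul (S.upper 1) (S.lower (-1))) (S.upper 1)
    have hJe : J = !![0, 1; -1, 0] := by
      rw [hJ]
      simp [Matrix.mul_fin_two]
    set X' := J * !![1, t • 1; 0, 1] * X with hX'
    have hX'm : X' ∈ Ms := S.mul (S.mul hJm (S.upper t)) hX
    have e0 : adj hb (X' 0 0) w = s := by
      rw [hX', hJe]
      simp [Matrix.mul_apply, Fin.sum_univ_two, hs]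
    have e1 : adj hb (X' 1 0) w = -(p + t • s) := by
      rw [hX', hJe]
      simp [Matrix.mul_apply, Fin.sum_univ_two, adj_add, adj_neg, adj_smul, hp, hs]
      abel
    have h1 : b (p + t • s) s = 0 := by
      simp [ht, hb.symm s p, hss]
    refine S.rank_one hX'm hw (by rwa [e0]) (by rw [e0, e1, map_neg, hb.symm, h1, neg_zero]) ?_ ?_
    · rw [e1]
      simp [ht, hb.symm s p]
      field_simp
      linear_combination hg
    · rw [e1, neg_ne_zero]
      intro h0
      have := (LinearIndependent.pair_iff.1 hind 1 t (by rwa [one_smul])).1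
      exact one_ne_zero this

end Setting

namespace PlaneData

variable {S : Setting hb Ms} {g : Blk F W} {k : F} {p s : W} (D : PlaneData S g k p s)
include D

local notation "σ₀" => lam b k p s
local notation "P₀" => proj b k p s

theorem el_mem_n (h3 : (3 : F) = 0) : D.el 0 (-1) 1 0 0 0 ∈ Ms := by
  have hW := S.mul (S.mul (D.T_mem 1) (D.h_mem' (-1))) (D.T_mem 1)
  have h := S.mul (S.mul hW hW) hW
  simp only [D.el_mul] at h
  convert h using 1
  congr 1
  all_goals first
    | ring1
    | linear_combination h3 * (-(0:F))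
    | linear_combination (-2 : F) * h3
    | linear_combination (2 : F) * h3
    | linear_combination ((-1 : F) / lam b k p s) * h3
    | linear_combination ((1 : F) / lam b k p s) * h3

theorem n_entries :
    D.el 0 (-1) 1 0 0 0 0 0 = 1 - P₀ + (σ₀)⁻¹ • (g 0 0 * g 1 0) ∧ D.el 0 (-1) 1 0 0 0 1 0 = P₀ ∧
      D.el 0 (-1) 1 0 0 0 1 1 = 1 - P₀ + (σ₀)⁻¹ • (g 1 0 * g 1 1) := by
  have hne := D.lam_ne
  have hPA : ∀ Z, P₀ * (g 1 0 * Z) = g 1 0 * Z := fun Z => by rw [← mul_assoc, D.P_A]
  have hAP : ∀ Z, g 1 0 * (P₀ * Z) = g 1 0 * Z := fun Z => by rw [← mul_assoc, D.A_P]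
  refine ⟨?_, ?_, ?_⟩
  all_goals
    simp [el, phi6, corner, Matrix.mul_apply, Matrix.vecMul, dotProduct, Fin.sum_univ_two, mul_assoc, D.P_A,
      D.A_P, D.A_sq, D.P_P, smul_mul_assoc, mul_smul_comm, smul_smul, inv_mul_cancel₀ hne, mul_inv_cancel₀ hne, hPA, hAP]
    try abel

theorem exists_nonsingular : ∃ u, P₀ u = u ∧ b u u ≠ 0 := by
  have key : ∀ a c : F, b (a • p + c • s) (a • p + c • s) ≠ 0 → ∃ u, P₀ u = u ∧ b u u ≠ 0 :=
    fun a c h => ⟨_, D.P_comb a c, h⟩
  by_cases hpp : b p p = 0
  · by_cases hss : b s s = 0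
    · refine key 1 1 ?_
      have := D.gram_ne
      simp [gram, hpp, hss] at this
      simp [hpp, hss, hb.symm s p, ← two_mul, hb.two, this]
    · exact key 0 1 (by simpa using hss)
  · exact key 1 0 (by simpa using hpp)

theorem diag_mem : (!![1 - (2 : F) • P₀, 0; 0, 1 - (2 : F) • P₀] : Blk F W) ∈ Ms := by
  obtain ⟨u, hu, huu⟩ := D.exists_nonsingular
  set A := g 1 0 with hA
  set v := A u with hv
  have hadj : ∀ x y, b (A x) y = -b x (A y) := fun x y => by
    rw [hb.symm, ← adj_left hb A y x, D.adj_A, LinearMap.neg_apply, map_neg, LinearMap.neg_apply, hb.symm]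
  have hAA : A (A u) = σ₀ • u := by
    rw [← Module.End.mul_apply, hA, D.A_sq, LinearMap.smul_apply, hu]
  have huv : b u v = 0 := by
    have h := hadj u u
    rw [hb.symm (A u) u] at h
    exact (mul_eq_zero.1 (show (2 : F) * b u (A u) = 0 by linear_combination h)).resolve_left hb.two
  have hvu : b v u = 0 := by rw [hb.symm, huv]
  have hvv : b v v = -(σ₀ * b u u) := by rw [hv, hadj, hAA, map_smul, smul_eq_mul]
  have hvv0 : b v v ≠ 0 := by rw [hvv]; simp [D.lam_ne, huu]
  obtain ⟨α, β, hαβ⟩ := D.P_mem u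
  rw [hu] at hαβ
  have hdet : k * b u u ≠ 0 := mul_ne_zero D.k_ne huu
  have hvx : v = k • ((α * b p p + β * b p s) • s - (α * b p s + β * b s s) • p) := by
    rw [hv, hA, D.eq_skw, skw_apply, hαβ]
    simp [hb.symm s p]
  have huu' : b u u = α * (α * b p p + β * b p s) + β * (α * b p s + β * b s s) := by
    rw [hαβ]; simp [hb.symm s p]
  have hp : (k * b u u) • p = (k * (α * b p p + β * b p s)) • u - β • v := by
    rw [hvx, huu', hαβ]; module
  have hs : (k * b u u) • s = (k * (α * b p s + β * b s s)) • u + α • v := by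
    rw [hvx, huu', hαβ]; module
  have hr : refl b u * refl b v = 1 - (2 : F) • P₀ := by
    refine LinearMap.ext fun x => ?_
    set z := x - (b u x / b u u) • u - (b v x / b v v) • v with hz
    have hzu : b u z = 0 := by simp [hz, huv, huu]
    have hzv : b v z = 0 := by simp [hz, hvu, hvv0]
    have hzp : b p z = 0 := by
      have h := congrArg (fun y => b y z) hp
      simp [hzu, hzv] at h
      exact h.resolve_left (by simp [D.k_ne, huu])
    have hzs : b s z = 0 := by
      have h := congrArg (fun y => b y z) hs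
      simp [hzu, hzv] at h
      exact h.resolve_left (by simp [D.k_ne, huu])
    have hPv : P₀ v = v := by rw [hv, ← Module.End.mul_apply, hA, D.P_A]
    have hPx : P₀ x = (b u x / b u u) • u + (b v x / b v v) • v := by
      conv_lhs => rw [show x = z + ((b u x / b u u) • u + (b v x / b v v) • v) by rw [hz]; abel]
      rw [map_add, D.P_perp hzp hzs, zero_add, map_add, map_smul, map_smul, hu, hPv]
    rw [Module.End.mul_apply, refl_apply, refl_apply, LinearMap.sub_apply, Module.End.one_apply,
      LinearMap.smul_apply, hPx, map_sub, map_smul, huv]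
    simp only [smul_eq_mul, mul_zero, sub_zero]
    module
  have := S.mul (S.diag u huu) (S.diag v hvv0)
  simpa [Matrix.mul_fin_two, hr] using this

/-- Either a new root element, or the top corner maps the plane into itself. -/
theorem corner_or_root (h3 : (3 : F) = 0) :
    (∃ A, S.Root A ∧ ∀ c : F, A ≠ c • 1) ∨ g 1 0 * g 1 1 = -(g 0 0 * g 1 0) := by
  obtain ⟨hadjA, hadj0, hrel⟩ := S.invol_facts D.mem D.sq
  have hne := D.lam_ne
  set S₀ := (σ₀)⁻¹ • (g 1 0 * g 1 1 + g 0 0 * g 1 0) with hS₀
  have hj := S.mul (D.el_mem_n h3) (D.el_mem_n h3)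
  rw [D.el_mul] at hj
  norm_num at hj
  have hPA : ∀ Z, P₀ * (g 1 0 * Z) = g 1 0 * Z := fun Z => by rw [← mul_assoc, D.P_A]
  have hAP : ∀ Z, g 1 0 * (P₀ * Z) = g 1 0 * Z := fun Z => by rw [← mul_assoc, D.A_P]
  have he : D.el (-1) 0 0 (-1) 0 0 * !![1 - (2 : F) • P₀, 0; 0, 1 - (2 : F) • P₀] =
      !![1, (-2 : F) • (S₀ * (1 - (2 : F) • P₀)); 0, 1] := by
    ext i j : 1
    fin_cases i <;> fin_cases j <;>
      simp [el, phi6, corner, hS₀, Matrix.mul_apply, Matrix.vecMul, dotProduct, Fin.sum_univ_two, mul_assoc,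
        D.P_A, D.A_P, D.A_sq, D.P_P, smul_mul_assoc, mul_smul_comm, smul_smul, mul_sub, sub_mul, add_mul, mul_add,
        inv_mul_cancel₀ hne, mul_inv_cancel₀ hne, hPA, hAP] <;>
      match_scalars <;> field_simp <;> ring_nf
  have hroot : S.Root ((-2 : F) • (S₀ * (1 - (2 : F) • P₀))) := by
    unfold CSetting.Root
    rw [← he]
    exact S.mul hj D.diag_mem
  by_cases hc : ∃ c : F, (-2 : F) • (S₀ * (1 - (2 : F) • P₀)) = c • 1
  · right
    obtain ⟨c, hc⟩ := hc
    have hPg : g 1 1 * g 1 0 = -(g 1 0 * g 0 0) := eq_neg_of_add_eq_zero_left (by rw [add_comm]; exact hrel)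
    have hPSP : P₀ * S₀ * P₀ = 0 := by
      rw [hS₀, mul_smul_comm, smul_mul_assoc, mul_add, add_mul, ← mul_assoc, D.P_A]
      have e1 : g 1 0 * g 1 1 * P₀ = -(P₀ * g 0 0 * g 1 0) := by
        rw [proj, ← D.eq_skw, mul_smul_comm, smul_mul_assoc, smul_mul_assoc, mul_assoc (g 1 0) (g 1 1),
          ← mul_assoc (g 1 1) (g 1 0), hPg, neg_mul, mul_neg, smul_neg]
        simp only [mul_assoc]
      rw [e1, mul_assoc P₀ (g 0 0 * g 1 0) P₀, mul_assoc (g 0 0), D.A_P, ← mul_assoc, neg_add_cancel, smul_zero]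
    have h := congrArg (fun Z => P₀ * Z * P₀) hc
    simp only [mul_smul_comm, smul_mul_assoc, mul_sub, sub_mul, mul_one, mul_assoc, D.P_P] at h
    rw [← mul_assoc, hPSP, smul_zero, sub_zero, smul_zero] at h
    have hc0 : c = 0 := by
      rcases smul_eq_zero.1 h.symm with h1 | h1
      · exact h1
      · exact absurd h1 (by simpa using D.P_ne_scalar S.dim 0)
    rw [hc0, zero_smul] at hc
    have h2 := (smul_eq_zero.1 hc).resolve_left (neg_ne_zero.2 hb.two)
    have h4 := congrArg (fun Z => Z * (1 - (2 : F) • P₀)) h2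
    have hinv : (1 - (2 : F) • P₀) * (1 - (2 : F) • P₀) = 1 := by
      simp only [mul_sub, sub_mul, one_mul, mul_one, smul_mul_assoc, mul_smul_comm, D.P_P]
      module
    simp only [mul_assoc, hinv, mul_one, zero_mul] at h4
    rw [hS₀, smul_eq_zero] at h4
    exact eq_neg_of_add_eq_zero_left (h4.resolve_left (inv_ne_zero hne))
  · exact Or.inl ⟨_, hroot, fun c h => hc ⟨c, h⟩⟩

/-- A non-degenerate plane over the field with three elements. -/
theorem root_of_three [Fintype F] (hN : S.NoPlane) (h3 : (3 : F) = 0)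
    (hiso : ∃ c : W, c ≠ 0 ∧ b c c = 0 ∧ b p c = 0 ∧ b s c = 0) :
    ∃ A, S.Root A ∧ ∀ c : F, A ≠ c • 1 := by
  rcases D.corner_or_root h3 with h | hS0
  · exact h
  obtain ⟨hadjA, hadj0, -⟩ := S.invol_facts D.mem D.sq
  have hne := D.lam_ne
  have h2 := hb.two
  set η := (σ₀)⁻¹ • (g 0 0 * g 1 0) with hη
  have hPη : P₀ * η = η := by
    rw [hη, mul_smul_comm, ← neg_neg (g 0 0 * g 1 0), ← hS0, mul_neg, ← mul_assoc, D.P_A]
  have hηP : η * P₀ = η := by rw [hη, smul_mul_assoc, mul_assoc, D.A_P]
  have hηadj : adj hb η = η := by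
    rw [hη, adj_smul, adj_mul, hadjA, hadj0, neg_mul, hS0, neg_neg]
  obtain ⟨e00, e10, e11⟩ := D.n_entries
  have hn := D.el_mem_n h3
  set n := D.el 0 (-1) 1 0 0 0 with hndef
  rw [← hη] at e00
  have e11' : n 1 1 = 1 - P₀ - η := by rw [e11, hS0, smul_neg, ← hη]; abel
  have hPη' : ∀ x, P₀ (η x) = η x := fun x => by rw [← Module.End.mul_apply, hPη]
  have hηP' : ∀ x, η (P₀ x) = η x := fun x => by rw [← Module.End.mul_apply, hηP]
  have hperp : ∀ x y, P₀ x = x → b p y = 0 → b s y = 0 → b x y = 0 := fun x y hx hpy hsy => by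
    rw [← hx]
    nth_rewrite 1 [← D.adj_P]
    rw [adj_left, D.P_perp hpy hsy, map_zero]
  -- vectors of the shape `u + k`
  have shape : ∀ u c : W, P₀ u = u → b p c = 0 → b s c = 0 →
      adj hb (n 0 0) (u + c) = c + η u ∧ adj hb (n 1 0) (u + c) = u ∧ adj hb (n 1 1) (u + c) = c - η u := by
    intro u c hu hpc hsc
    have hc := D.P_perp hpc hsc
    have hηc : η c = 0 := by rw [← hηP' c, hc, map_zero]
    rw [e00, e10, e11', adj_add, adj_sub, adj_sub, adj_sub, adj_one, D.adj_P, hηadj]
    simp only [LinearMap.add_apply, LinearMap.sub_apply, Module.End.one_apply, map_add, hu, hc, hηc]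
    refine ⟨?_, ?_, ?_⟩ <;> abel
  have hind : ∀ u c : W, P₀ u = u → b p c = 0 → b s c = 0 → u ≠ 0 → c ≠ 0 →
      LinearIndependent F ![c + η u, u] := by
    intro u c hu hpc hsc hu0 hc0
    refine LinearIndependent.pair_iff.2 fun a e h => ?_
    have h1 := congrArg (fun x => x - P₀ x) h
    simp only [map_add, map_smul, map_zero, sub_zero, hu, D.P_perp hpc hsc, hPη', zero_add] at h1
    have ha : a = 0 := by
      have h' : a • c = 0 := by linear_combination (norm := module) h1
      exact (smul_eq_zero.1 h').resolve_right hc0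
    rw [ha, zero_smul, zero_add] at h
    exact ⟨ha, (smul_eq_zero.1 h).resolve_right hu0⟩
  by_cases hscal : ∃ u, P₀ u = u ∧ ∀ l : F, η u ≠ l • u
  · obtain ⟨u, hu, hnu⟩ := hscal
    obtain ⟨c, hc0, hpc, hsc, hcc⟩ : ∃ c : W, c ≠ 0 ∧ b p c = 0 ∧ b s c = 0 ∧ b c c ≠ -b u u := by
      by_cases huu : b u u = 0
      · by_contra hcon
        push Not at hcon
        obtain ⟨c, hc0, hpc, hsc⟩ := exists_perp_two (b := b) p s S.dim
        refine hc0 (hb.nondeg.1 c fun y => ?_)
        have hPp : P₀ p = p := by simpa using D.P_comb 1 0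
        have hPs : P₀ s = s := by simpa using D.P_comb 0 1
        have hadjP : ∀ z, b z (P₀ y) = b (P₀ z) y := fun z => by
          nth_rewrite 2 [← D.adj_P]
          rw [adj_left]
        have hy : b p (y - P₀ y) = 0 ∧ b s (y - P₀ y) = 0 := by
          constructor <;> simp [hadjP, hPp, hPs]
        have hzero : ∀ x, b p x = 0 → b s x = 0 → b x x = 0 := fun x hx hx' => by
          by_cases hx0 : x = 0
          · simp [hx0]
          · rw [hcon x hx0 hx hx', huu, neg_zero]
        have e1 := hzero c hpc hsc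
        have e2 := hzero _ hy.1 hy.2
        have e3 := hzero (c + (y - P₀ y)) (by rw [map_add, hpc, hy.1, add_zero]) (by rw [map_add, hsc, hy.2, add_zero])
        have e4 : b c (P₀ y) = 0 := by
          rw [hb.symm]
          exact hperp _ c (by rw [← Module.End.mul_apply, D.P_P]) hpc hsc
        rw [LinearMap.BilinForm.add_left, LinearMap.BilinForm.add_right, LinearMap.BilinForm.add_right, e1, e2,
          hb.symm (y - P₀ y) c, zero_add, add_zero, ← two_mul] at e3
        have e5 := (mul_eq_zero.1 e3).resolve_left h2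
        rwa [map_sub, e4, sub_zero] at e5
      · obtain ⟨c, hc0, hcc, hpc, hsc⟩ := hiso
        exact ⟨c, hc0, hpc, hsc, by rw [hcc]; exact fun h => huu (neg_eq_zero.1 h.symm)⟩
    have hu0 : u ≠ 0 := fun h => hnu 0 (by simp [h])
    obtain ⟨s0, s1, s2⟩ := shape u c hu hpc hsc
    have hw : b (u + c) (u + c) ≠ 0 := by
      have := hperp u c hu hpc hsc
      simp [this, hb.symm c u]
      intro h
      exact hcc (by linear_combination h)
    have hI : LinearIndependent F ![adj hb (n 0 0) (u + c), adj hb (n 1 0) (u + c)] := by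
      rw [s0, s1]; exact hind u c hu hpc hsc hu0 hc0
    by_cases hgr : gram b (adj hb (n 0 0) (u + c)) (adj hb (n 1 0) (u + c)) = 0
    · exact S.degenerate_case hN hn hw hI hgr
    set k' : F := 2 / b (u + c) (u + c) with hk'
    set p' := adj hb (n 0 0) (u + c) with hp'
    set q' := adj hb (n 1 0) (u + c) with hq'
    have D' : PlaneData S (S.invol n (u + c)) k' p' q' :=
      ⟨S.invol_mem hn hw, S.invol_sq hn hw, div_ne_zero h2 hw, S.invol_corner hn _, hgr⟩
    rcases D'.corner_or_root h3 with h | hS1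
    · exact h
    exfalso
    -- the new top corner maps the new plane into itself
    set g' := S.invol n (u + c) with hg'
    set G := gram b p' q' with hG
    set x := (b q' q' / G) • p' + (-(b p' q') / G) • q' with hx
    have hx1 : b p' x = 1 := by
      rw [hx]; simp; field_simp; rw [hG, gram]; ring
    have hx2 : b q' x = 0 := by
      rw [hx]; simp [hb.symm q' p']; ring
    have hPx : proj b k' p' q' x = x := D'.P_comb _ _
    have hxA : x = g' 1 0 ((lam b k' p' q')⁻¹ • g' 1 0 x) := by
      conv_lhs => rw [← hPx]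
      rw [proj, D'.eq_skw, LinearMap.smul_apply, Module.End.mul_apply, map_smul]
    have hmap : proj b k' p' q' (g' 0 0 x) = g' 0 0 x := by
      have e : proj b k' p' q' * (g' 0 0 * g' 1 0) = g' 0 0 * g' 1 0 := by
        rw [← neg_neg (g' 0 0 * g' 1 0), ← hS1, mul_neg, ← mul_assoc, D'.P_A]
      rw [hxA, ← Module.End.mul_apply (g' 0 0), ← Module.End.mul_apply, e]
    have htop : g' 0 0 x = x - k' • (c - η u) := by
      have e := congrArg (adj hb) (S.invol_corner_top hn (u + c))
      rw [adj_adj, adj_sub, adj_one, adj_smul, adj_sub, adj_op, adj_op] at e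
      rw [← hg'] at e
      rw [e]
      simp only [LinearMap.sub_apply, Module.End.one_apply, LinearMap.smul_apply, op_apply, ← hp', ← hq', hx1,
        hx2, s2, one_smul, zero_smul, sub_zero, ← hk']
    rw [htop, map_sub, map_smul, hPx, sub_right_inj] at hmap
    have h5 : proj b k' p' q' (c - η u) = c - η u := by
      have hk0 : k' ≠ 0 := div_ne_zero h2 hw
      exact smul_right_injective W hk0 hmap
    obtain ⟨α, β, hαβ⟩ := D'.P_mem (c - η u)
    rw [h5, s0, s1] at hαβ
    have h6 := congrArg (fun z => z - P₀ z) hαβ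
    simp [map_add, map_sub, hu, D.P_perp hpc hsc, hPη'] at h6
    have hα : α = 1 := by
      have h' : (α - 1) • c = 0 := by linear_combination (norm := module) -h6
      exact sub_eq_zero.1 ((smul_eq_zero.1 h').resolve_right hc0)
    refine hnu (-β / 2) ?_
    rw [hα, one_smul] at hαβ
    have h7 : (2 : F) • η u = (-β) • u := by linear_combination (norm := module) -hαβ
    have := congrArg (fun z => (2 : F)⁻¹ • z) h7
    simpa [smul_smul, inv_mul_cancel₀ h2, mul_comm, div_eq_mul_inv] using this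
  · push Not at hscal
    obtain ⟨u, hu, huu⟩ := D.exists_nonsingular
    obtain ⟨l, hl⟩ := hscal u hu
    obtain ⟨c, hc0, hcc, hpc, hsc⟩ := hiso
    obtain ⟨s0, s1, -⟩ := shape u c hu hpc hsc
    have huc := hperp u c hu hpc hsc
    have hcu : b c u = 0 := by rw [hb.symm, huc]
    have hu0 : u ≠ 0 := fun h => huu (by simp [h])
    refine S.degenerate_case hN hn (w := u + c) (by simp [huc, hcu, hcc, huu]) ?_ ?_
    · rw [s0, s1]; exact hind u c hu hpc hsc hu0 hc0
    · rw [s0, s1, gram, hl]
      simp [hcu, huc, hcc]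
      ring

end PlaneData

end CfsgLib.TensorSympMax
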