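import Cfsg.Agent.Lib.TensorSympMax.Basic

/-!
One pure isotropic transvection group spreads to all transvection groups.
-/

set_option autoImplicit false
set_option linter.unusedSectionVars false

namespace CfsgLib.TensorSympMax

open LinearMap Module

variable {F : Type*} [Field F] {W : Type*} [AddCommGroup W] [Module F W] [FiniteDimensional F W]
  {b : LinearMap.BilinForm F W} {hb : Form b} {Ms : Set (Blk F W)}

namespace CSetting

variable (S : CSetting hb Ms)
include S

theorem glue (P Q : Submodule F (W × W)) (hP : ∀ x ∈ P, x ∈ centres b Ms) (hQ : ∀ x ∈ Q, x ∈ centres b Ms)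
    (horth : ∀ p ∈ P, ∀ q ∈ Q, phi b p q = 0) (ndP : ∀ p ∈ P, p ≠ 0 → ∃ p' ∈ P, phi b p' p ≠ 0)
    (ndQ : ∀ p ∈ Q, p ≠ 0 → ∃ p' ∈ Q, phi b p' p ≠ 0) {p₀ q₀ : W × W} (hp₀ : p₀ ∈ P) (hq₀ : q₀ ∈ Q)
    (hp0 : p₀ ≠ 0) (hq0 : q₀ ≠ 0) (hlink : p₀ + q₀ ∈ centres b Ms) :
    ∀ p ∈ P, ∀ q ∈ Q, p + q ∈ centres b Ms := by
  have move : ∀ P Q : Submodule F (W × W), (∀ x ∈ P, x ∈ centres b Ms) →
      (∀ p ∈ P, ∀ q ∈ Q, phi b q p = 0) → (∀ p ∈ P, p ≠ 0 → ∃ p' ∈ P, phi b p' p ≠ 0) →
      ∀ x ∈ P, x ≠ 0 → ∀ y ∈ Q, x + y ∈ centres b Ms → ∀ x' ∈ P, x' ≠ 0 → x' + y ∈ centres b Ms := by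
    intro P Q hP horth ndP x hx hx0 y hy hxy x' hx' hx'0
    have one : ∀ p ∈ P, ∀ q ∈ P, phi b p q ≠ 0 → p + y ∈ centres b Ms → q + y ∈ centres b Ms := by
      intro p hp q hq hpq hpy
      have hd : q - p ∈ P := P.sub_mem hq hp
      have := S.centres_step hpy (hP _ hd)
        (by rwa [phi_add_left, horth _ hd y hy, add_zero, show q - p = q + (-1 : F) • p by module, phi_add_right,
          phi_smul_right, phi_self hb, mul_zero, add_zero]) 1
      rwa [one_smul, show p + y + (q - p) = q + y by abel] at this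
    obtain ⟨p, hp, hpx⟩ := ndP x hx hx0
    obtain ⟨q, hq, hqx'⟩ := ndP x' hx' hx'0
    have hxp : phi b x p ≠ 0 := by rw [phi_swap hb, neg_ne_zero]; exact hpx
    by_cases h1 : phi b p x' = 0
    · by_cases h2 : phi b q x = 0
      · have hz : p + q ∈ P := P.add_mem hp hq
        exact one _ hz _ hx' (by rwa [phi_add_left, h1, zero_add])
          (one _ hx _ hz (by rw [phi_swap hb, neg_ne_zero, phi_add_left, h2, add_zero]; exact hpx) hxy)
      · exact one _ hq _ hx' hqx' (one _ hx _ hq (by rw [phi_swap hb, neg_ne_zero]; exact h2) hxy)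
    · exact one _ hp _ hx' h1 (one _ hx _ hp hxp hxy)
  intro p hp q hq
  by_cases h1 : p = 0
  · rw [h1, zero_add]; exact hQ q hq
  by_cases h2 : q = 0
  · rw [h2, add_zero]; exact hP p hp
  have e1 := move P Q hP (fun a ha c hc => by rw [phi_swap hb, horth a ha c hc, neg_zero]) ndP p₀ hp₀ hp0 q₀ hq₀
    hlink p hp h1
  have e2 := move Q P hQ (fun a ha c hc => horth c hc a ha) ndQ q₀ hq₀ hq0 p hp (by rwa [add_comm]) q hq h2
  rwa [add_comm]

/-- A pure transvection group gives those of its whole line tensored with the plane. -/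
theorem pure_line {i : W} (hi : (i, (0 : W)) ∈ centres b Ms) (s r : F) : (s • i, r • i) ∈ centres b Ms := by
  have h1 : ∀ c : F, (i, c • i) ∈ centres b Ms := fun c => by
    simpa [act] using S.centres_act (S.lower c) hi
  by_cases hs : s = 0
  · have h2 : ((0 : W), i) ∈ centres b Ms := by
      simpa [act] using S.centres_act (S.upper (-1)) (h1 1)
    simpa [hs] using centres_smul hb h2 r
  · have := centres_smul hb (h1 (r / s)) s
    simpa [smul_smul, mul_div_cancel₀ _ hs] using this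

theorem refl_centres {w x : W} (hw : b w w ≠ 0) (hx : (x, (0 : W)) ∈ centres b Ms) :
    (refl b w x, (0 : W)) ∈ centres b Ms := by
  intro c
  convert S.conj w hw (hx c) using 1
  refine act_ext fun y => ?_
  rw [act_mul, act_mul, act_tv hb, act_tv hb, act_add, act_smul]
  have e : ∀ z, b (refl b w z) x = b z (refl b w x) := fun z => by rw [← adj_left hb (refl b w), adj_refl]
  have e2 : ∀ z : W, refl b w (refl b w z) = z := fun z => by
    rw [← Module.End.mul_apply, refl_mul_self hw, Module.End.one_apply]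
  ext <;> simp [act, phi, e, e2]

/-- Subspaces whose tensor product with the plane lies in the centres and which have orthogonal projections. -/
def Full (_S : CSetting hb Ms) (H : Submodule F W) : Prop :=
  (∀ a ∈ H, ∀ a' ∈ H, (a, a') ∈ centres b Ms) ∧ ∀ x, ∃ h ∈ H, ∀ y ∈ H, b (x - h) y = 0

theorem full_plane {i j : W} (hi : (i, (0 : W)) ∈ centres b Ms) (hii : b i i = 0) (hjj : b j j = 0)
    (hij : b i j = 1) : S.Full (Submodule.span F {i, j}) := by
  have hji : b j i = 1 := by rw [hb.symm, hij]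
  have hj : (j, (0 : W)) ∈ centres b Ms := by
    have hd : b (i - j) (i - j) ≠ 0 := by
      simp only [map_sub, LinearMap.sub_apply, hii, hjj, hij, hji]
      intro h
      exact hb.two (by linear_combination -h)
    have := S.refl_centres hd hi
    rwa [refl_swap hb (by rw [hii, hjj]) hd] at this
  let P : Submodule F (W × W) := (Submodule.span F {i}).prod (Submodule.span F {j})
  let Q : Submodule F (W × W) := (Submodule.span F {j}).prod (Submodule.span F {i})
  have cross : ∀ {x y : W}, (x, (0 : W)) ∈ centres b Ms → (y, (0 : W)) ∈ centres b Ms → b x y = 1 →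
      ∀ p ∈ (Submodule.span F {x}).prod (Submodule.span F {y}), p ∈ centres b Ms := by
    rintro x y hx hy hxy ⟨p, p'⟩ ⟨hp, hp'⟩
    obtain ⟨s, rfl⟩ := Submodule.mem_span_singleton.1 hp
    obtain ⟨r, rfl⟩ := Submodule.mem_span_singleton.1 hp'
    by_cases hs : s = 0
    · simpa [hs] using S.pure_line hy 0 r
    have h := centres_smul hb (S.centres_step (by simpa using S.pure_line hx 1 0)
      (by simpa using S.pure_line hy 0 1) (by simp [phi, hxy]) (r / s)) s
    simpa [smul_smul, mul_div_cancel₀ _ hs] using h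
  have nd : ∀ {x y : W}, b x y = 1 → b x x = 0 → ∀ p ∈ (Submodule.span F {x}).prod (Submodule.span F {y}), p ≠ 0 →
      ∃ p' ∈ (Submodule.span F {x}).prod (Submodule.span F {y}), phi b p' p ≠ 0 := by
    rintro x y hxy _ ⟨p, p'⟩ ⟨hp, hp'⟩ h0
    obtain ⟨s, rfl⟩ := Submodule.mem_span_singleton.1 hp
    obtain ⟨r, rfl⟩ := Submodule.mem_span_singleton.1 hp'
    by_cases hr : r = 0
    · refine ⟨(0, y), ⟨Submodule.zero_mem _, Submodule.mem_span_singleton_self y⟩, ?_⟩
      have hs : s ≠ 0 := fun hs => h0 (by simp [hs, hr])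
      simpa [phi, hb.symm y x, hxy] using hs
    · exact ⟨(x, 0), ⟨Submodule.mem_span_singleton_self x, Submodule.zero_mem _⟩, by simpa [phi, hxy] using hr⟩
  have horth : ∀ p ∈ P, ∀ q ∈ Q, phi b p q = 0 := by
    rintro ⟨p, p'⟩ ⟨hp, hp'⟩ ⟨q, q'⟩ ⟨hq, hq'⟩
    obtain ⟨s, rfl⟩ := Submodule.mem_span_singleton.1 hp
    obtain ⟨r, rfl⟩ := Submodule.mem_span_singleton.1 hp'
    obtain ⟨s', rfl⟩ := Submodule.mem_span_singleton.1 hq
    obtain ⟨r', rfl⟩ := Submodule.mem_span_singleton.1 hq'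
    simp [phi, hii, hjj]
  have hi0 : i ≠ 0 := fun h => by simp [h] at hij
  refine ⟨fun a ha a' ha' => ?_, fun x => ?_⟩
  · obtain ⟨s, r, rfl⟩ := Submodule.mem_span_pair.1 ha
    obtain ⟨s', r', rfl⟩ := Submodule.mem_span_pair.1 ha'
    have := S.glue P Q (cross hi hj hij) (cross hj hi hji) horth (nd hij hii) (nd hji hjj)
      (p₀ := (i, 0)) (q₀ := (0, i)) ⟨Submodule.mem_span_singleton_self i, Submodule.zero_mem _⟩
      ⟨Submodule.zero_mem _, Submodule.mem_span_singleton_self i⟩ (by simp [hi0]) (by simp [hi0])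
      (by simpa using S.pure_line hi 1 1)
      (s • i, r' • j) ⟨Submodule.smul_mem _ _ (Submodule.mem_span_singleton_self i),
        Submodule.smul_mem _ _ (Submodule.mem_span_singleton_self j)⟩
      (r • j, s' • i) ⟨Submodule.smul_mem _ _ (Submodule.mem_span_singleton_self j),
        Submodule.smul_mem _ _ (Submodule.mem_span_singleton_self i)⟩
    simpa [add_comm (r' • j)] using this
  · refine ⟨b x j • i + b x i • j, Submodule.mem_span_pair.2 ⟨_, _, rfl⟩, fun y hy => ?_⟩
    obtain ⟨s, r, rfl⟩ := Submodule.mem_span_pair.1 hy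
    simp [hii, hjj, hij, hji]
    ring

theorem full_extend {H : Submodule F W} (hH : S.Full H) {i j : W} (hi : i ∈ H) (hj : j ∈ H) (hii : b i i = 0)
    (hjj : b j j = 0) (hij : b i j = 1) {e : W} (he : ∀ y ∈ H, b e y = 0) (hee : b e e ≠ 0) :
    S.Full (H ⊔ Submodule.span F {e}) := by
  obtain ⟨hC, hproj⟩ := hH
  have hji : b j i = 1 := by rw [hb.symm, hij]
  have hei : b e i = 0 := he i hi
  have hej : b e j = 0 := he j hj
  have hie : b i e = 0 := by rw [hb.symm, hei]
  have hje : b j e = 0 := by rw [hb.symm, hej]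
  set h := i + (b e e / 2) • j with hh
  have hhH : h ∈ H := H.add_mem hi (H.smul_mem _ hj)
  have h2 := hb.two
  have hhh : b h h = b e e := by
    simp [hh, hii, hjj, hij, hji]; field_simp; ring
  have hhe : b h e = 0 := by simp [hh, hie, hje]
  have heh : b e h = 0 := by rw [hb.symm, hhe]
  have d1 : b (h - e) (h - e) ≠ 0 := by
    simp only [map_sub, LinearMap.sub_apply, hhh, hhe, heh]
    exact fun h0 => hee ((mul_eq_zero.1 (show (2 : F) * b e e = 0 by linear_combination h0)).resolve_left h2)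
  have he0 : (e, (0 : W)) ∈ centres b Ms := by
    have := S.refl_centres d1 (hC h hhH 0 H.zero_mem)
    rwa [refl_swap hb hhh d1] at this
  set h' := i + b e e • j with hh'
  have hlink : (h + e, (0 : W)) ∈ centres b Ms := by
    have e1 : b h' h' = b (h + e) (h + e) := by
      simp [hh, hh', hii, hjj, hij, hji, hie, hje, hei, hej]; field_simp; ring
    have e2 : h' - (h + e) = (b e e / 2) • j - e := by
      rw [hh, hh']; match_scalars <;> field_simp <;> ring
    have d2 : b (h' - (h + e)) (h' - (h + e)) ≠ 0 := by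
      rw [e2]
      simpa [hjj, hje, hej] using hee
    have := S.refl_centres d2 (hC h' (H.add_mem hi (H.smul_mem _ hj)) 0 H.zero_mem)
    rwa [refl_swap hb e1 d2] at this
  have ndH : ∀ p ∈ H.prod H, p ≠ 0 → ∃ p' ∈ H.prod H, phi b p' p ≠ 0 := by
    rintro ⟨p, p'⟩ ⟨hp, hp'⟩ h0
    have key : ∀ p ∈ H, p ≠ 0 → ∃ y ∈ H, b y p ≠ 0 := by
      intro p hp hp0
      obtain ⟨y, hy⟩ : ∃ y, b p y ≠ 0 := by
        by_contra hc
        push Not at hc
        exact hp0 (hb.nondeg.1 p hc)
      obtain ⟨k, hk, hk'⟩ := hproj y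
      refine ⟨k, hk, ?_⟩
      have := hk' p hp
      rw [map_sub, LinearMap.sub_apply, sub_eq_zero] at this
      rwa [← this, hb.symm]
    by_cases hp0 : p = 0
    · obtain ⟨y, hy, hyp⟩ := key p' hp' (fun h => h0 (by simp [hp0, h]))
      exact ⟨(y, 0), ⟨hy, H.zero_mem⟩, by simpa [phi] using hyp⟩
    · obtain ⟨y, hy, hyp⟩ := key p hp hp0
      exact ⟨(0, y), ⟨H.zero_mem, hy⟩, by simpa [phi] using hyp⟩
  have ndQ : ∀ p ∈ (Submodule.span F {e}).prod (Submodule.span F {e}), p ≠ 0 →
      ∃ p' ∈ (Submodule.span F {e}).prod (Submodule.span F {e}), phi b p' p ≠ 0 := by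
    rintro ⟨p, p'⟩ ⟨hp, hp'⟩ h0
    obtain ⟨s, rfl⟩ := Submodule.mem_span_singleton.1 hp
    obtain ⟨r, rfl⟩ := Submodule.mem_span_singleton.1 hp'
    by_cases hr : r = 0
    · refine ⟨(0, e), ⟨Submodule.zero_mem _, Submodule.mem_span_singleton_self e⟩, ?_⟩
      have hs : s ≠ 0 := fun hs => h0 (by simp [hs, hr])
      simp [phi, hs, hee]
    · exact ⟨(e, 0), ⟨Submodule.mem_span_singleton_self e, Submodule.zero_mem _⟩, by simp [phi, hr, hee]⟩
  have horth : ∀ p ∈ H.prod H, ∀ q ∈ (Submodule.span F {e}).prod (Submodule.span F {e}), phi b p q = 0 := by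
    rintro ⟨p, p'⟩ ⟨hp, hp'⟩ ⟨q, q'⟩ ⟨hq, hq'⟩
    obtain ⟨s, rfl⟩ := Submodule.mem_span_singleton.1 hq
    obtain ⟨r, rfl⟩ := Submodule.mem_span_singleton.1 hq'
    simp [phi, hb.symm p e, hb.symm p' e, he p hp, he p' hp']
  refine ⟨fun a ha a' ha' => ?_, fun x => ?_⟩
  · obtain ⟨a₁, ha₁, a₂, ha₂, rfl⟩ := Submodule.mem_sup.1 ha
    obtain ⟨a₁', ha₁', a₂', ha₂', rfl⟩ := Submodule.mem_sup.1 ha'
    refine S.glue (H.prod H) ((Submodule.span F {e}).prod (Submodule.span F {e}))
      (fun p hp => hC _ hp.1 _ hp.2) ?_ horth ndH ndQ (p₀ := (h, 0)) (q₀ := (e, 0))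
      ⟨hhH, H.zero_mem⟩ ⟨Submodule.mem_span_singleton_self e, Submodule.zero_mem _⟩ ?_ ?_
      (by simpa using hlink) (a₁, a₁') ⟨ha₁, ha₁'⟩ (a₂, a₂') ⟨ha₂, ha₂'⟩
    · rintro ⟨p, p'⟩ ⟨hp, hp'⟩
      obtain ⟨s, rfl⟩ := Submodule.mem_span_singleton.1 hp
      obtain ⟨r, rfl⟩ := Submodule.mem_span_singleton.1 hp'
      exact S.pure_line he0 s r
    · intro h0
      have : h = 0 := congrArg Prod.fst h0
      rw [this] at hhh
      exact hee (by simpa using hhh.symm)
    · intro h0
      have : e = 0 := congrArg Prod.fst h0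
      exact hee (by simp [this])
  · obtain ⟨k, hk, hk'⟩ := hproj x
    refine ⟨k + (b (x - k) e / b e e) • e,
      Submodule.add_mem_sup hk (Submodule.smul_mem _ _ (Submodule.mem_span_singleton_self e)), fun y hy => ?_⟩
    obtain ⟨y₁, hy₁, y₂, hy₂, rfl⟩ := Submodule.mem_sup.1 hy
    obtain ⟨s, rfl⟩ := Submodule.mem_span_singleton.1 hy₂
    rw [← sub_sub]
    have a1 := hk' y₁ hy₁
    simp only [map_add, map_sub, map_smul, LinearMap.sub_apply, LinearMap.smul_apply, smul_eq_mul] at a1 ⊢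
    rw [he y₁ hy₁]
    linear_combination a1 - s * (div_mul_cancel₀ (b x e - b k e) hee)

/-- One pure isotropic transvection group generates all of them. -/
theorem all_centres {i : W} (hii : b i i = 0) (hi0 : i ≠ 0) (hi : (i, (0 : W)) ∈ centres b Ms) (v : W × W) :
    v ∈ centres b Ms := by
  have h2 := hb.two
  obtain ⟨y, hy⟩ : ∃ y, b i y ≠ 0 := by
    by_contra hc
    push Not at hc
    exact hi0 (hb.nondeg.1 i hc)
  set j := (b i y)⁻¹ • (y - (b y y / (2 * b i y)) • i) with hj
  have hij : b i j = 1 := by simp [hj, hii]; field_simp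
  have hjj : b j j = 0 := by
    simp only [hj, map_smul, LinearMap.smul_apply, map_sub, LinearMap.sub_apply, hii, hb.symm y i, smul_eq_mul]
    field_simp
    ring
  suffices key : ∀ k, ∀ H : Submodule F W, finrank F W - finrank F H = k → S.Full H → i ∈ H → j ∈ H →
      v ∈ centres b Ms from
    key _ _ rfl (S.full_plane hi hii hjj hij) (Submodule.subset_span (Set.mem_insert _ _))
      (Submodule.subset_span (Set.mem_insert_of_mem _ rfl))
  intro k
  induction k using Nat.strong_induction_on with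
  | _ k ih =>
  intro H hk hH hiH hjH
  by_cases hT : H = ⊤
  · exact hH.1 v.1 (hT ▸ Submodule.mem_top) v.2 (hT ▸ Submodule.mem_top)
  obtain ⟨e, he, hee⟩ : ∃ e, (∀ y ∈ H, b e y = 0) ∧ b e e ≠ 0 := by
    by_contra hc
    push Not at hc
    apply hT
    refine eq_top_iff.2 fun x _ => ?_
    obtain ⟨h, hh, hh'⟩ := hH.2 x
    have h0 : x - h = 0 := hb.ext_left fun y => by
      obtain ⟨h₁, hh₁, hh₁'⟩ := hH.2 y
      have e1 := hc (x - h) hh'
      have e2 := hc (y - h₁) hh₁'
      have e3 := hc ((x - h) + (y - h₁)) fun z hz => by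
        rw [map_add, LinearMap.add_apply, hh' z hz, hh₁' z hz, add_zero]
      rw [LinearMap.BilinForm.add_left, LinearMap.BilinForm.add_right, LinearMap.BilinForm.add_right, e1, e2,
        hb.symm (y - h₁) (x - h), zero_add, add_zero, ← two_mul] at e3
      have e4 := (mul_eq_zero.1 e3).resolve_left h2
      rw [map_sub (b (x - h)), hh' h₁ hh₁, sub_zero] at e4
      simpa using e4
    rw [sub_eq_zero.1 h0]
    exact hh
  have hlt : H < H ⊔ Submodule.span F {e} := by
    refine lt_of_le_of_ne le_sup_left fun heq => hee ?_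
    have : e ∈ H := heq ▸ Submodule.mem_sup_right (Submodule.mem_span_singleton_self e)
    exact he e this
  refine ih _ ?_ _ rfl (S.full_extend hH hiH hjH hii hjj hij he hee) (hlt.le hiH) (hlt.le hjH)
  have h3 := Submodule.finrank_lt_finrank_of_lt hlt
  have h4 := Submodule.finrank_le (H ⊔ Submodule.span F {e})
  omega

end CSetting

end CfsgLib.TensorSympMax
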